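import Groth.Agent.H9Tame.TamePart
import Groth.Agent.H9Hens.StrictHens
import Groth.Agent.H9Hens.PtLocalProps
import Groth.Agent.H9Hens.PtField
import Groth.Agent.H11Val.Dominating

/-!
# Ramification indices of tame covers are prime to the residue characteristic
-/

set_option autoImplicit false
set_option linter.style.haveILetI false

universe u

open IsLocalRing Groth.Agent.H9Ram
open scoped TensorProduct

noncomputable section

namespace Groth.Agent.H9Tame

/-- A common place over two places above the same discrete valuation ring. -/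
theorem exists_common_place {R V S : Type u} [CommRing R] [IsDomain R] [IsDiscreteValuationRing R]
    [CommRing V] [IsDomain V] [IsLocalRing V] [Algebra R V] [IsLocalHom (algebraMap R V)]
    [CommRing S] [IsDomain S] [IsLocalRing S] [Algebra R S] [IsLocalHom (algebraMap R S)]
    (hV : Function.Injective (algebraMap R V)) (hS : Function.Injective (algebraMap R S)) :
    ∃ (Ω : Type u) (_ : Field Ω) (_ : IsAlgClosed Ω) (W : ValuationSubring Ω) (iV : V →+* Ω) (iS : S →+* Ω),
      Function.Injective iV ∧ Function.Injective iS ∧ iV.comp (algebraMap R V) = iS.comp (algebraMap R S) ∧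
      (∀ v, iV v ∈ W ∧ (v ∈ maximalIdeal V ↔ W.valuation (iV v) < 1)) ∧
      (∀ x, iS x ∈ W ∧ (x ∈ maximalIdeal S ↔ W.valuation (iS x) < 1)) := by
  haveI : Module.IsTorsionFree R V := Module.isTorsionFree_iff_algebraMap_injective.mpr hV
  haveI : Module.IsTorsionFree R S := Module.isTorsionFree_iff_algebraMap_injective.mpr hS
  haveI : Module.Flat R V := inferInstance
  haveI : Module.Flat R S := inferInstance
  -- a common residue field
  obtain ⟨k, _, gV, gS, hg, hgV0, hgS0⟩ : ∃ (k : Type u) (_ : Field k) (gV : V →+* k) (gS : S →+* k),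
      gV.comp (algebraMap R V) = gS.comp (algebraMap R S) ∧ (∀ v, gV v = 0 ↔ v ∈ maximalIdeal V) ∧
        (∀ v, gS v = 0 ↔ v ∈ maximalIdeal S) := by
    let κ := ResidueField R
    haveI : Nontrivial (ResidueField V ⊗[κ] ResidueField S) :=
      Algebra.TensorProduct.nontrivial_of_algebraMap_injective_of_isDomain _ _ _
        (algebraMap κ (ResidueField V)).injective (algebraMap κ (ResidueField S)).injective
    obtain ⟨M, hM⟩ := Ideal.exists_maximal (ResidueField V ⊗[κ] ResidueField S)
    haveI := hM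
    letI := Ideal.Quotient.field M
    let jV : ResidueField V →+* (ResidueField V ⊗[κ] ResidueField S) ⧸ M :=
      (Ideal.Quotient.mk M).comp Algebra.TensorProduct.includeLeftRingHom
    let jS : ResidueField S →+* (ResidueField V ⊗[κ] ResidueField S) ⧸ M :=
      (Ideal.Quotient.mk M).comp (Algebra.TensorProduct.includeRight : ResidueField S →ₐ[κ] _).toRingHom
    refine ⟨_, Ideal.Quotient.field M, jV.comp (residue V), jS.comp (residue S), RingHom.ext fun x => ?_,
      fun v => ?_, fun v => ?_⟩
    · show Ideal.Quotient.mk M ((residue V (algebraMap R V x)) ⊗ₜ[κ] 1) =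
        Ideal.Quotient.mk M (1 ⊗ₜ[κ] residue S (algebraMap R S x))
      rw [show residue V (algebraMap R V x) = algebraMap κ _ (residue R x) from rfl,
        show residue S (algebraMap R S x) = algebraMap κ _ (residue R x) from rfl,
        Algebra.algebraMap_eq_smul_one, Algebra.algebraMap_eq_smul_one, TensorProduct.smul_tmul]
    · show jV (residue V v) = 0 ↔ _
      rw [map_eq_zero_iff _ jV.injective, residue_eq_zero_iff]
    · show jS (residue S v) = 0 ↔ _
      rw [map_eq_zero_iff _ jS.injective, residue_eq_zero_iff]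
  letI : Algebra R k := (gV.comp (algebraMap R V)).toAlgebra
  let gV' : V →ₐ[R] k := { gV with commutes' := fun _ => rfl }
  let gS' : S →ₐ[R] k := { gS with commutes' := fun x => (RingHom.congr_fun hg x).symm }
  let g : V ⊗[R] S →ₐ[R] k := Algebra.TensorProduct.lift gV' gS' fun _ _ => Commute.all _ _
  let Q := RingHom.ker g
  haveI : Q.IsPrime := RingHom.ker_isPrime g
  obtain ⟨q, hq, hqQ⟩ := Ideal.exists_minimalPrimes_le (bot_le : ⊥ ≤ Q)
  haveI : q.IsPrime := hq.isPrime
  have hqV : Ideal.comap (algebraMap V (V ⊗[R] S)) q = ⊥ := by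
    haveI : q.LiesOver (Ideal.comap (algebraMap V (V ⊗[R] S)) q) := ⟨rfl⟩
    haveI : (⊥ : Ideal V).IsPrime := Ideal.isPrime_bot
    haveI : (Ideal.comap (algebraMap V (V ⊗[R] S)) q).IsPrime := Ideal.IsPrime.comap _
    obtain ⟨P, hPq, hP, hPl⟩ := q.exists_ideal_le_liesOver_of_le (p := (⊥ : Ideal V))
      (q := Ideal.comap (algebraMap V (V ⊗[R] S)) q) bot_le
    rw [← le_antisymm hPq (hq.2 ⟨hP, bot_le⟩ hPq)]
    exact hPl.over.symm
  let iS' : S →+* V ⊗[R] S := (Algebra.TensorProduct.includeRight : S →ₐ[R] V ⊗[R] S).toRingHom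
  have hqS : Ideal.comap iS' q = ⊥ := by
    letI : Algebra S (V ⊗[R] S) := iS'.toAlgebra
    haveI : Module.Flat S (V ⊗[R] S) := by
      haveI hb : Module.Flat S (S ⊗[R] V) := inferInstance
      exact Module.Flat.of_linearEquiv
        ({ (Algebra.TensorProduct.comm R S V).toAddEquiv with
          map_smul' := fun a x => by
            show Algebra.TensorProduct.comm R S V (a • x) = iS' a * Algebra.TensorProduct.comm R S V x
            rw [Algebra.smul_def, map_mul]
            rfl } : S ⊗[R] V ≃ₗ[S] V ⊗[R] S).symm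
    haveI : q.LiesOver (Ideal.comap iS' q) := ⟨rfl⟩
    haveI : (⊥ : Ideal S).IsPrime := Ideal.isPrime_bot
    haveI : (Ideal.comap iS' q).IsPrime := Ideal.IsPrime.comap _
    obtain ⟨P, hPq, hP, hPl⟩ := q.exists_ideal_le_liesOver_of_le (p := (⊥ : Ideal S))
      (q := Ideal.comap iS' q) bot_le
    rw [← le_antisymm hPq (hq.2 ⟨hP, bot_le⟩ hPq)]
    exact hPl.over.symm
  let D := (V ⊗[R] S) ⧸ q
  haveI : IsDomain D := Ideal.Quotient.isDomain q
  let Ω := AlgebraicClosure (FractionRing D)
  let f : D →+* Ω := (algebraMap (FractionRing D) Ω).comp (algebraMap D (FractionRing D))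
  have hf : Function.Injective f := (algebraMap (FractionRing D) Ω).injective.comp (IsFractionRing.injective D _)
  haveI : (Q.map (Ideal.Quotient.mk q)).IsPrime := Ideal.map_isPrime_of_surjective Ideal.Quotient.mk_surjective
    (by rw [Ideal.mk_ker]; exact hqQ)
  obtain ⟨W, hW⟩ := H11Val.exists_valuationSubring_center f hf (Q.map (Ideal.Quotient.mk q))
  have hQm : ∀ x, Ideal.Quotient.mk q x ∈ Q.map (Ideal.Quotient.mk q) ↔ x ∈ Q := by
    intro x
    rw [← Ideal.mem_comap, Ideal.comap_map_of_surjective _ Ideal.Quotient.mk_surjective,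
      ← RingHom.ker_eq_comap_bot, Ideal.mk_ker, sup_eq_left.mpr hqQ]
  have hgV : ∀ v : V, v ⊗ₜ[R] (1 : S) ∈ Q ↔ v ∈ maximalIdeal V := fun v => by
    rw [RingHom.mem_ker, show g (v ⊗ₜ[R] (1 : S)) = gV v by simp [g, gV']]
    exact hgV0 v
  have hgS : ∀ v : S, (1 : V) ⊗ₜ[R] v ∈ Q ↔ v ∈ maximalIdeal S := fun v => by
    rw [RingHom.mem_ker, show g ((1 : V) ⊗ₜ[R] v) = gS v by simp [g, gS']]
    exact hgS0 v
  let iV : V →+* Ω := f.comp ((Ideal.Quotient.mk q).comp (algebraMap V (V ⊗[R] S)))
  let iS : S →+* Ω := f.comp ((Ideal.Quotient.mk q).comp iS')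
  refine ⟨Ω, inferInstance, inferInstance, W, iV, iS, ?_, ?_, ?_, fun v => ⟨(hW _).1, ?_⟩, fun v => ⟨(hW _).1, ?_⟩⟩
  · rw [RingHom.injective_iff_ker_eq_bot, ← hqV, ← RingHom.comap_ker, (RingHom.injective_iff_ker_eq_bot f).mp hf,
      ← RingHom.ker_eq_comap_bot, ← RingHom.comap_ker, Ideal.mk_ker]
  · rw [RingHom.injective_iff_ker_eq_bot, ← hqS, ← RingHom.comap_ker, (RingHom.injective_iff_ker_eq_bot f).mp hf,
      ← RingHom.ker_eq_comap_bot, ← RingHom.comap_ker, Ideal.mk_ker]
  · refine RingHom.ext fun x => ?_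
    show f (Ideal.Quotient.mk q (algebraMap R V x ⊗ₜ[R] 1)) = f (Ideal.Quotient.mk q (1 ⊗ₜ[R] algebraMap R S x))
    rw [Algebra.algebraMap_eq_smul_one, Algebra.algebraMap_eq_smul_one, TensorProduct.smul_tmul]
  · rw [← hgV, ← hQm]
    exact (hW _).2
  · rw [← hgS, ← hQm]
    exact (hW _).2

/-- The ramification index at a place divides `m` when all points are fractions in a ring with an `m`-th root. -/
theorem dvd_of_rational {A : Type u} [CommRing A] [IsDomain A] [IsNoetherianRing A] {x : A} (hx0 : x ≠ 0)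
    [(Ideal.span {x}).IsPrime] {C : Type u} [CommRing C] [Algebra A C]
    (A' : Type u) [CommRing A'] [IsDomain A'] [IsNoetherianRing A'] [Algebra A A']
    (hinj : Function.Injective (algebraMap A A')) {t : A'} (ht0 : t ≠ 0) [(Ideal.span {t}).IsPrime] {m : ℕ}
    (htm : t ^ m = algebraMap A A' x) (hcomap : Ideal.comap (algebraMap A A') (Ideal.span {t}) = Ideal.span {x})
    {K L : Type u} [Field K] [Algebra (Localization.AtPrime (Ideal.span {x})) K]
    [IsFractionRing (Localization.AtPrime (Ideal.span {x})) K] [Field L] [Algebra K L] [FiniteDimensional K L]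
    [Algebra.IsSeparable K L] (ι : C →+* L)
    (hι : ∀ a : A, ι (algebraMap A C a) =
      algebraMap K L (algebraMap (Localization.AtPrime (Ideal.span {x})) K (algebraMap A _ a)))
    (hgen : ∀ z : L, ∃ a b : C, ι b ≠ 0 ∧ z * ι b = ι a)
    (hrat : ∀ (Ω : Type u) [Field Ω] [IsAlgClosed Ω] [Algebra A Ω] (Ψ : A' →+* Ω), Function.Injective Ψ →
      (∀ a : A, Ψ (algebraMap A A' a) = algebraMap A Ω a) → ∀ (χ : C →ₐ[A] Ω) (c : C),
        ∃ a b : A', b ≠ 0 ∧ χ c * Ψ b = Ψ a)
    (V : ValuationSubring L)
    (hV : EtRam.Dominates (Localization.AtPrime (Ideal.span {x}))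
      ((algebraMap K L).comp (algebraMap (Localization.AtPrime (Ideal.span {x})) K)) V) :
    letI : Algebra (Localization.AtPrime (Ideal.span {x})) V := (RingHom.codRestrict
      ((algebraMap K L).comp (algebraMap (Localization.AtPrime (Ideal.span {x})) K)) V hV.1).toAlgebra
    Ideal.ramificationIdx' (maximalIdeal (Localization.AtPrime (Ideal.span {x}))) (maximalIdeal V) ∣ m := by
  obtain ⟨hdR, hπ⟩ := isDVR_localization hx0
  obtain ⟨hdS, hτ⟩ := isDVR_localization ht0
  haveI := hdR; haveI := hdS
  let R := Localization.AtPrime (Ideal.span {x})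
  let S := Localization.AtPrime (Ideal.span {t})
  letI : Algebra R V := (RingHom.codRestrict ((algebraMap K L).comp (algebraMap R K)) V hV.1).toAlgebra
  haveI : IsLocalHom (algebraMap R V) := Dom.isLocalHom hV
  haveI : IsDiscreteValuationRing V := ValSub.isDVR hV
  have hiV : Function.Injective (algebraMap R V) := ValSub.codRestrict_injective
    (g := (algebraMap K L).comp (algebraMap R K))
    ((algebraMap K L).injective.comp (IsFractionRing.injective R K)) hV
  obtain ⟨j, hj⟩ : ∃ j : R →+* S, ∀ a, j (algebraMap A R a) = algebraMap A' S (algebraMap A A' a) :=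
    ⟨Localization.localRingHom (Ideal.span {x}) (Ideal.span {t}) (algebraMap A A') hcomap.symm,
      fun a => Localization.localRingHom_to_map ..⟩
  letI : Algebra R S := j.toAlgebra
  have hjx : algebraMap R S (algebraMap A R x) = algebraMap A' S t ^ m := by
    rw [← map_pow, htm]
    exact hj x
  haveI : IsLocalHom (algebraMap R S) := by
    refine ((local_hom_TFAE (algebraMap R S)).out 0 2).mpr ?_
    rw [hπ.maximalIdeal_eq, Ideal.map_span, Set.image_singleton, Ideal.span_singleton_le_iff_mem]
    show algebraMap R S _ ∈ _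
    rw [show algebraMap R S (algebraMap A R x) = algebraMap A' S (algebraMap A A' x) from hj x]
    exact (IsLocalization.AtPrime.to_map_mem_maximal_iff S (Ideal.span {t}) _).mpr
      (Ideal.mem_comap.mp (hcomap.ge (Ideal.mem_span_singleton_self x)))
  have hinjS : Function.Injective (algebraMap A' S) :=
    IsLocalization.injective S (Ideal.span {t}).primeCompl_le_nonZeroDivisors
  have hiS : Function.Injective (algebraMap R S) := by
    rw [injective_iff_map_eq_zero]
    intro z hz
    obtain ⟨⟨a, u⟩, hau⟩ := IsLocalization.surj (Ideal.span {x}).primeCompl z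
    have h1 := congrArg (algebraMap R S) hau
    rw [map_mul, hz, zero_mul, show algebraMap R S (algebraMap A R a) = _ from hj a] at h1
    rw [hinj ((hinjS (h1.symm.trans (map_zero _).symm)).trans (map_zero _).symm), map_zero] at hau
    exact (mul_eq_zero.mp hau).resolve_right (IsLocalization.map_units R u).ne_zero
  obtain ⟨Ω, _, _, W, iV, iS, hiVi, hiSi, hcomp, hWV, hWS⟩ := exists_common_place (R := R) (V := V) (S := S) hiV hiS
  -- the point with values in the common field
  obtain ⟨iL, hiL⟩ : ∃ iL : L →+* Ω, ∀ v : V, iL (v : L) = iV v :=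
    ⟨IsFractionRing.lift (A := V) (K := L) hiVi, fun v => IsFractionRing.lift_algebraMap hiVi v⟩
  letI : Algebra A Ω := (iL.comp (ι.comp (algebraMap A C))).toAlgebra
  let χ : C →ₐ[A] Ω := { iL.comp ι with commutes' := fun _ => rfl }
  let Ψ : A' →+* Ω := iS.comp (algebraMap A' S)
  have hΨA : ∀ a : A, Ψ (algebraMap A A' a) = algebraMap A Ω a := fun a => by
    show iS (algebraMap A' S (algebraMap A A' a)) = iL (ι (algebraMap A C a))
    rw [← hj a, hι]
    show (iS.comp (algebraMap R S)) (algebraMap A R a) = iL ((algebraMap R V (algebraMap A R a) : V) : L)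
    rw [← hcomp, hiL]
    rfl
  have hΨ : Function.Injective Ψ := hiSi.comp hinjS
  have hfr : ∀ z : L, ∃ a b : A', b ≠ 0 ∧ iL z * Ψ b = Ψ a := fun z => by
    obtain ⟨c, d, hd, hcd⟩ := hgen z
    obtain ⟨a, b, hb, hab⟩ := hrat Ω Ψ hΨ hΨA χ c
    obtain ⟨a', b', hb', hab'⟩ := hrat Ω Ψ hΨ hΨA χ d
    have hd' : χ d ≠ 0 := (map_ne_zero iL).mpr hd
    have ha' : a' ≠ 0 := fun h0 => by
      rw [h0, map_zero, mul_eq_zero] at hab'
      exact hab'.elim hd' ((map_ne_zero_iff _ hΨ).mpr hb')
    refine ⟨a * b', b * a', mul_ne_zero hb ha', ?_⟩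
    have h2 : χ c = iL z * χ d := by
      show iL (ι c) = iL z * iL (ι d)
      rw [← map_mul, hcd]
    rw [map_mul, map_mul, ← hab, ← hab', h2]
    ring
  have hVS : ∀ v : V, ∃ y : S, iS y = iV v := fun v => by
    obtain ⟨a, b, hb, hab⟩ := hfr (v : L)
    rw [hiL] at hab
    rcases @ValuationRing.dvd_total S _ inferInstance (algebraMap A' S b) (algebraMap A' S a) with ⟨y, hy⟩ | ⟨y, hy⟩
    · refine ⟨y, mul_right_cancel₀ ((map_ne_zero_iff _ hΨ).mpr hb) ?_⟩
      rw [hab]
      show iS y * iS (algebraMap A' S b) = iS (algebraMap A' S a)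
      rw [← map_mul, hy, mul_comm]
    · have h1 : iV v * iS y = 1 := by
        refine mul_right_cancel₀ (b := Ψ a) (fun h0 => ?_) ?_
        · rw [hΨ (h0.trans (map_zero Ψ).symm), map_zero, zero_mul] at hy
          exact (map_ne_zero_iff _ hinjS).mpr hb hy
        · rw [one_mul, mul_assoc]
          refine Eq.trans ?_ hab
          show iV v * (iS y * iS (algebraMap A' S a)) = iV v * iS (algebraMap A' S b)
          rw [← map_mul, hy, mul_comm y]
      have hyu : IsUnit y := by
        by_contra hn
        have h2 := congrArg W.valuation h1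
        rw [map_mul, map_one] at h2
        have h3 : W.valuation (iV v) ≤ 1 := (W.valuation_le_one_iff _).mpr (hWV v).1
        have h4 : W.valuation (iS y) < 1 := (hWS y).2.mp hn
        exact (mul_lt_one_of_nonneg_of_lt_one_right h3 zero_le' h4).ne h2
      obtain ⟨u, rfl⟩ := hyu
      refine ⟨(u⁻¹ : Sˣ), ?_⟩
      rw [map_units_inv, eq_inv_of_mul_eq_one_left h1]
  choose k hk using hVS
  let κ : V →+* S :=
    { toFun := k
      map_one' := hiSi (by rw [hk, map_one, map_one])
      map_mul' := fun a b => hiSi (by rw [map_mul iS, hk, hk, hk, map_mul])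
      map_zero' := hiSi (by rw [hk, map_zero, map_zero])
      map_add' := fun a b => hiSi (by rw [map_add iS, hk, hk, hk, map_add]) }
  letI : Algebra V S := κ.toAlgebra
  haveI : IsScalarTower R V S := IsScalarTower.of_algebraMap_eq fun z => hiSi (by
    show _ = iS (k (algebraMap R V z))
    rw [hk]
    exact (RingHom.congr_fun hcomp z).symm)
  haveI : IsLocalHom (algebraMap V S) := ⟨fun v hv => by
    by_contra hn
    have h1 := (hWV v).2.mp hn
    rw [← hk v] at h1
    exact (mem_maximalIdeal _).mp ((hWS (k v)).2.mpr h1) hv⟩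
  have hiVS : Function.Injective (algebraMap V S) := fun a b hab => hiVi (by
    rw [← hk a, ← hk b]; exact congrArg iS hab)
  obtain ⟨u, hu, -⟩ := TameBC.exists_eq_unit_mul_pow hiS hπ hτ
  have hem : Ideal.ramificationIdx' (maximalIdeal R) (maximalIdeal S) = m := by
    rw [hjx] at hu
    have h1 : Associated (algebraMap A' S t ^ m) (algebraMap A' S t ^
        Ideal.ramificationIdx' (maximalIdeal R) (maximalIdeal S)) :=
      Associated.symm ⟨u, by rw [hu, mul_comm]⟩
    exact le_antisymm ((pow_dvd_pow_iff hτ.ne_zero hτ.not_isUnit).mp h1.symm.dvd)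
      ((pow_dvd_pow_iff hτ.ne_zero hτ.not_isUnit).mp h1.dvd)
  exact ⟨_, hem.symm.trans (ValSub.ramificationIdx_mul hiV hiVS)⟩

variable {A : Type u} [CommRing A] [IsRegularLocalRing A] [IsDomain A] {r : ℕ} (f : Fin r → A)
  [∀ i, (Ideal.span {f i}).IsPrime] (hm : ∀ i, f i ∈ maximalIdeal A)
  (hf : LinearIndependent (ResidueField A) (fun i => (maximalIdeal A).toCotangent ⟨f i, hm i⟩))
  (C : Type u) [CommRing C] [Algebra A C] [Algebra (Localization.Away (∏ i, f i)) C]
  [IsScalarTower A (Localization.Away (∏ i, f i)) C]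
  [Module.Finite (Localization.Away (∏ i, f i)) C] [Algebra.Etale (Localization.Away (∏ i, f i)) C]

include hm hf in
/-- The ramification indices of a tame cover divide the prime-to-`p` part of the exponent of an extension. -/
theorem indexDvd_of_model (htame : SGA1.IsTameAlong f (algebraMap A C)) {p k m : ℕ} [Fact p.Prime] (hm0 : 1 ≤ m)
    (hp : (p : A) ∈ maximalIdeal A) (hdvd : ∀ j, (p : A) ∈ Ideal.span {f j} → IndexDvd (Ideal.span {f j}) C m)
    (A₀ : Type u) [CommRing A₀] [Algebra A A₀] (h : A₀ →+* SGA1.kummerAlg A f (fun _ => p ^ k * m))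
    (hh : ∀ a, h (algebraMap A A₀ a) = algebraMap A _ a)
    (E₀ : Type u) [CommRing E₀] [Algebra A₀ E₀] [Module.Finite A₀ E₀] [Algebra.Etale A₀ E₀]
    (ψ₀ : E₀ →ₐ[A₀] A₀ ⊗[A] C)
    (hψ₀ : letI := ψ₀.toRingHom.toAlgebra
      IsLocalization.Away (algebraMap A₀ E₀ (algebraMap A A₀ (∏ i, f i))) (A₀ ⊗[A] C)) (i : Fin r) :
    IndexDvd (Ideal.span {f i}) C m := by
  classical
  by_cases hpi : (p : A) ∈ Ideal.span {f i}
  · exact hdvd i hpi
  have hf0 := ne_zero_of_linearIndependent f hm hf
  obtain ⟨κ, _, _, _, _, _, B, _, _, _, _, π, hπ, hB⟩ := H9Hens.exists_isStrictHenselization_colim A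
  have hker := H9Hens.ker_algebraMap_of_tower (R := A) (k := κ)
  haveI := hπ.faithfullyFlat hker
  haveI := hπ.isNoetherianRing hker
  have hmax := hπ.map_maximalIdeal hker
  haveI : IsRegularLocalRing B := (H9Hens.isRegularLocalRing_iff_of_map_maximalIdeal A B hmax).mp inferInstance
  haveI : IsDomain B := H4Depth.isDomain_of_isRegularLocalRing B
  haveI := hB.henselian
  haveI := hB.isSepClosure
  haveI : IsSepClosed (ResidueField B) := IsSepClosure.sep_closed (ResidueField A)
  have hAB : Function.Injective (algebraMap A B) := FaithfulSMul.algebraMap_injective A B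
  have hmg : ∀ j, algebraMap A B (f j) ∈ maximalIdeal B := fun j => hmax.le (Ideal.mem_map_of_mem _ (hm j))
  have hg := linearIndependent_map f hm hf hmax hmg
  let g := fun j => algebraMap A B (f j)
  haveI := isPrime_span_of_linearIndependent g hmg hg i
  have hp0A : (p : A) ≠ 0 := fun h0 => hpi (by rw [h0]; exact zero_mem _)
  have hpB : (p : B) ∈ maximalIdeal B := by
    rw [← map_natCast (algebraMap A B)]; exact hmax.le (Ideal.mem_map_of_mem _ hp)
  have hp0B : (p : B) ≠ 0 := by
    rw [← map_natCast (algebraMap A B)]; exact (map_ne_zero_iff _ hAB).mpr hp0A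
  let A' := SGA1.kummerAlg B g (fun _ => m)
  haveI : IsRegularLocalRing A' := H9Et.Kummer.isRegularLocalRing g (fun _ => hm0) hmg hg
  haveI : IsDomain A' := H4Depth.isDomain_of_isRegularLocalRing A'
  haveI : Module.Flat B A' := H9Et.Kummer.flat g (fun _ => hm0) hmg hg
  have hinjB' := H9Et.Kummer.injective_algebraMap g (n := fun _ => m) (fun _ => hm0)
  let t := H9Et.Kummer.root g (fun _ => m) i
  haveI : (Ideal.span {t}).IsPrime := isPrime_root g hmg hg (fun _ => hm0) i
  have htm : t ^ m = algebraMap B A' (g i) := H9Et.Kummer.root_pow g (fun _ => m) i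
  have hg0 : g i ≠ 0 := (map_ne_zero_iff _ hAB).mpr (hf0 i)
  have ht0 : t ≠ 0 := fun h0 => hg0 (hinjB' (by rw [← htm, h0, zero_pow (by omega), map_zero]))
  have hQ : Ideal.comap (algebraMap B A') (Ideal.span {t}) = Ideal.span {g i} := by
    haveI : (Ideal.comap (algebraMap B A') (Ideal.span {t})).IsPrime := Ideal.IsPrime.comap _
    refine eq_span_of_mem_of_height_le_one hg0 _ ?_ ?_
    · rw [Ideal.mem_comap, ← htm]
      exact Ideal.pow_mem_of_mem _ (Ideal.mem_span_singleton_self t) _ (by omega)
    · haveI : (Ideal.span {t}).LiesOver (Ideal.comap (algebraMap B A') (Ideal.span {t})) := ⟨rfl⟩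
      refine le_trans ?_ (Ideal.height_le_one_of_isPrincipal_of_mem_minimalPrimes (Ideal.span {t}) (Ideal.span {t})
        (by rw [Ideal.minimalPrimes_eq_subsingleton_self]; exact Set.mem_singleton _))
      rw [Ideal.height_eq_height_add_of_liesOver_of_hasGoingDown
        (Ideal.comap (algebraMap B A') (Ideal.span {t})) (Ideal.span {t})]
      exact le_self_add
  have hAA' : ∀ a : A, algebraMap A A' a = algebraMap B A' (algebraMap A B a) :=
    IsScalarTower.algebraMap_apply A B A'
  obtain ⟨h₀, hh₀⟩ := exists_kummer_baseChange (B := B) f (fun _ => p ^ k * m)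
  obtain ⟨aP, htP, hfP⟩ := exists_fraction_algebra (A := A) (Ideal.span {f i})
  intro q _ hq
  obtain ⟨aL, haL, hfd, hsep, -⟩ := exists_residueField_algebra f C hf0 q hq
  letI := aP; letI := aL
  haveI := htP; haveI := hfP; haveI := hfd; haveI := hsep
  have hgr : (algebraMap (FractionRing A) q.ResidueField).comp
      (algebraMap (Localization.AtPrime (Ideal.span {f i})) (FractionRing A)) =
      SGA1.genericResidueMap (algebraMap A C) (Ideal.span {f i}) q hq := by
    refine IsLocalization.ringHom_ext (Ideal.span {f i}).primeCompl (RingHom.ext fun x => ?_)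
    show algebraMap (FractionRing A) q.ResidueField (algebraMap _ (FractionRing A) (algebraMap A _ x)) =
      SGA1.genericResidueMap (algebraMap A C) (Ideal.span {f i}) q hq (algebraMap A _ x)
    rw [← IsScalarTower.algebraMap_apply A (Localization.AtPrime (Ideal.span {f i})) (FractionRing A),
      SGA1.genericResidueMap, IsLocalization.lift_eq]
    exact (RingHom.congr_fun haL x).trans (IsScalarTower.algebraMap_apply A C _ x)
  suffices H : ∀ g' : Localization.AtPrime (Ideal.span {f i}) →+* q.ResidueField,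
      g' = (algebraMap (FractionRing A) q.ResidueField).comp
        (algebraMap (Localization.AtPrime (Ideal.span {f i})) (FractionRing A)) →
      ∀ (V : ValuationSubring q.ResidueField) (hV : EtRam.Dominates (Localization.AtPrime (Ideal.span {f i})) g' V),
        letI : Algebra (Localization.AtPrime (Ideal.span {f i})) V := (RingHom.codRestrict g' V hV.1).toAlgebra
        Ideal.ramificationIdx' (maximalIdeal (Localization.AtPrime (Ideal.span {f i}))) (maximalIdeal V) ∣ m from
    fun V hV => H _ hgr.symm V hV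
  rintro g' rfl
  refine fun V hV => dvd_of_rational (hf0 i) A'
    (by rw [IsScalarTower.algebraMap_eq A B A']; exact hinjB'.comp hAB) ht0 (by rw [hAA']; exact htm)
    ?_ (algebraMap C q.ResidueField) (fun a => ?_) (fun z => ?_) ?_ V hV
  · rw [IsScalarTower.algebraMap_eq A B A', ← Ideal.comap_comap, hQ,
      show Ideal.span {g i} = (Ideal.span {f i}).map (algebraMap A B) by rw [Ideal.map_span, Set.image_singleton]]
    exact Ideal.comap_map_eq_self_of_faithfullyFlat _
  · rw [← IsScalarTower.algebraMap_apply A (Localization.AtPrime (Ideal.span {f i})) (FractionRing A)]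
    exact (IsScalarTower.algebraMap_apply A C _ a).symm.trans (RingHom.congr_fun haL a).symm
  · obtain ⟨y, w, hw, rfl⟩ := IsFractionRing.div_surjective (C ⧸ q) z
    obtain ⟨y, rfl⟩ := Ideal.Quotient.mk_surjective y
    obtain ⟨w, rfl⟩ := Ideal.Quotient.mk_surjective w
    have hw0 : algebraMap C q.ResidueField w ≠ 0 := by
      rw [IsScalarTower.algebraMap_apply C (C ⧸ q) q.ResidueField]
      exact IsFractionRing.to_map_ne_zero_of_mem_nonZeroDivisors hw
    exact ⟨y, w, hw0, div_mul_cancel₀ _ hw0⟩
  · intro Ω _ _ _ Ψ hΨ hΨA χ c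
    exact mem_tame_part f hf0 C hmg hg htame hm0 hpB hp0B hAB hdvd
      A₀ (h₀.comp h) (fun a => by rw [RingHom.comp_apply, hh, hh₀]) E₀ ψ₀ hψ₀ Ψ hΨ (fun a => by rw [← hΨA, hAA']) χ c

end Groth.Agent.H9Tame
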