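import Groth.Agent.H9Ram.TowerExt
import Mathlib.RingTheory.Smooth.Fiber
import Mathlib.RingTheory.Unramified.Locus
import Mathlib.RingTheory.Etale.Pi
import Mathlib.RingTheory.DedekindDomain.IntegralClosure
import Mathlib.RingTheory.DedekindDomain.AdicValuation
import Mathlib.RingTheory.Unramified.Field
import Mathlib.RingTheory.Etale.Field
import Mathlib.RingTheory.Unramified.LocalRing

/-!
# Integral closure in an unramified extension of the fraction field
-/

set_option autoImplicit false

universe u

open IsLocalRing IsDedekindDomain Groth.Agent.H9Ram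

namespace Groth.Agent.H9Tame

variable {R K : Type u} [CommRing R] [IsDomain R] [IsDiscreteValuationRing R] [Field K] [Algebra R K]
  [IsFractionRing R K]

/-- The integral closure in an unramified extension is finite etale. -/
theorem etale_integralClosure (F : Type u) [Field F] [Algebra K F] [Algebra R F] [IsScalarTower R K F]
    [FiniteDimensional K F] [Algebra.IsSeparable K F]
    (h : ∀ (W : ValuationSubring F) (hW : EtRam.Dominates R ((algebraMap K F).comp (algebraMap R K)) W),
      TowerExt.UnrAt _ W hW) :
    Module.Finite R (integralClosure R F) ∧ Algebra.Etale R (integralClosure R F) := by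
  let B := integralClosure R F
  have : IsDedekindDomain B := IsIntegralClosure.isDedekindDomain R K F B
  have : IsFractionRing B F := integralClosure.isFractionRing_of_finite_extension K F
  have hfin : Module.Finite R B := IsIntegralClosure.finite R K F B
  refine ⟨hfin, ?_⟩
  have : FaithfulSMul R F := (faithfulSMul_iff_algebraMap_injective R F).mpr (by
    rw [IsScalarTower.algebraMap_eq R K F]
    exact (algebraMap K F).injective.comp (IsFractionRing.injective R K))
  have hinjB : Function.Injective (algebraMap R B) := fun a b e =>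
    FaithfulSMul.algebraMap_injective R F (congrArg Subtype.val e)
  have : Module.IsTorsionFree R B := (Module.isTorsionFree_iff_algebraMap_injective).mpr hinjB
  have hmax : ∀ (M : Ideal B) [M.IsMaximal], Algebra.IsUnramifiedAt R M := by
    intro M hM
    have hunder : M.comap (algebraMap R B) = maximalIdeal R :=
      eq_maximalIdeal (Ideal.isMaximal_comap_of_isIntegral_of_isMaximal M)
    have hne : M ≠ ⊥ := fun e => IsDiscreteValuationRing.not_a_field R <| by
      rw [← hunder, e, ← RingHom.ker_eq_comap_bot, (RingHom.injective_iff_ker_eq_bot _).mp hinjB]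
    let v : HeightOneSpectrum B := ⟨M, hM.isPrime, hne⟩
    let V := (v.valuation F).valuationSubring
    have hB : ∀ b : B, (b : F) ∈ V := fun b =>
      (Valuation.mem_valuationSubring_iff _ _).mpr (v.valuation_le_one b)
    have hV : EtRam.Dominates R ((algebraMap K F).comp (algebraMap R K)) V := by
      rw [← IsScalarTower.algebraMap_eq]
      refine ⟨fun a => hB (algebraMap R B a), fun a ha => ?_⟩
      show V.valuation (algebraMap B F (algebraMap R B a)) < 1
      rw [← (v.valuation F).isEquiv_valuation_valuationSubring.lt_one_iff_lt_one, v.valuation_lt_one_iff_mem]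
      exact hunder.ge ha
    let : Algebra R V := (RingHom.codRestrict ((algebraMap K F).comp (algebraMap R K)) V hV.1).toAlgebra
    let : Algebra B V := ((algebraMap B F).codRestrict V.toSubring hB).toAlgebra
    have : IsScalarTower R B V := IsScalarTower.of_algebraMap_eq fun a =>
      Subtype.ext (IsScalarTower.algebraMap_apply R K F a).symm
    have hmem : ∀ b : B, IsUnit (algebraMap B V b) ↔ b ∉ M := fun b => by
      rw [show b ∉ M ↔ ¬ (v.valuation F) (algebraMap B F b) < 1 from
        (not_congr (v.valuation_lt_one_iff_mem (K := F) b)).symm, ← not_iff_not, not_not]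
      show ¬ IsUnit _ ↔ (v.valuation F) _ < 1
      rw [← mem_nonunits_iff, ← mem_maximalIdeal, ← ValuationSubring.coe_mem_nonunits_iff,
        ValuationSubring.mem_nonunits_iff, ← (v.valuation F).isEquiv_valuation_valuationSubring.lt_one_iff_lt_one]
      rfl
    have : IsLocalization M.primeCompl V := {
      map_units := fun b => (hmem b).mpr b.2
      surj := fun y => by
        obtain ⟨n, d, hnd⟩ := v.exists_primeCompl_mul_eq_of_integer (y : F)
          ((Valuation.mem_valuationSubring_iff _ _).mp y.2)
        exact ⟨⟨n, d⟩, Subtype.ext hnd⟩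
      exists_of_eq := fun {x y} hxy =>
        ⟨1, congrArg _ (IsFractionRing.injective B F (congrArg (fun z : V => (z : F)) hxy :))⟩ }
    have hl : IsLocalHom (algebraMap R V) := Dom.isLocalHom hV
    obtain ⟨hw, hs⟩ := h V hV
    have : Algebra.EssFiniteType B V := Algebra.EssFiniteType.of_isLocalization V M.primeCompl
    have : Algebra.EssFiniteType R V := Algebra.EssFiniteType.comp R B V
    have : Algebra.FormallyUnramified R V :=
      Algebra.FormallyUnramified.iff_map_maximalIdeal_eq.mpr ⟨hs, hw⟩
    exact Algebra.FormallyUnramified.of_equiv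
      ((IsLocalization.algEquiv M.primeCompl V (Localization.AtPrime M)).restrictScalars R)
  have hall : ∀ (P : Ideal B) [P.IsPrime], Algebra.IsUnramifiedAt R P := by
    intro P hP
    obtain ⟨M, hM, hle⟩ := Ideal.exists_le_maximal P hP.ne_top
    have hsp : (⟨P, hP⟩ : PrimeSpectrum B) ⤳ ⟨M, hM.isPrime⟩ :=
      (PrimeSpectrum.le_iff_specializes _ _).mp hle
    exact hsp.mem_open Algebra.isOpen_unramifiedLocus (hmax M)
  have : Algebra.FormallyUnramified R B := Algebra.formallyUnramified_iff_forall.mpr fun P => hall P.asIdeal
  have : Algebra.FinitePresentation R B := Algebra.FinitePresentation.of_finiteType.mp inferInstance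
  exact Algebra.Etale.of_formallyUnramified_of_flat

/-- A finite etale algebra over the fraction field, unramified at all places, comes from a finite etale
algebra. -/
theorem exists_etale_model (T : Type u) [CommRing T] [Algebra K T] [Algebra R T] [IsScalarTower R K T]
    [Module.Finite K T] [Algebra.FormallyUnramified K T]
    (h : ∀ (F : Type u) [Field F] [Algebra R F] (φ : T →ₐ[R] F), Function.Surjective φ →
      ∀ (W : ValuationSubring F) (hW : EtRam.Dominates R (algebraMap R F) W),
        TowerExt.UnrAt (algebraMap R F) W hW) :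
    ∃ (E : Type u) (_ : CommRing E) (_ : Algebra R E) (_ : Module.Finite R E) (_ : Algebra.Etale R E)
      (ψ : E →ₐ[R] T), ∀ c : R, c ≠ 0 → ¬ IsUnit c →
        (letI := ψ.toRingHom.toAlgebra; IsLocalization.Away (algebraMap R E c) T) := by
  classical
  have : IsArtinianRing T := IsArtinianRing.of_finite K T
  have : IsReduced T := Algebra.FormallyUnramified.isReduced_of_field K T
  letI (M : MaximalSpectrum T) : Field (T ⧸ M.asIdeal) := Ideal.Quotient.field M.asIdeal
  have hsep : ∀ M : MaximalSpectrum T, Algebra.IsSeparable K (T ⧸ M.asIdeal) := fun M => by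
    have : Algebra.FormallyUnramified K (T ⧸ M.asIdeal) :=
      Algebra.FormallyUnramified.of_surjective (Ideal.Quotient.mkₐ K M.asIdeal) Ideal.Quotient.mk_surjective
    exact Algebra.FormallyUnramified.isSeparable K (T ⧸ M.asIdeal)
  have hE : ∀ M : MaximalSpectrum T, Module.Finite R (integralClosure R (T ⧸ M.asIdeal)) ∧
      Algebra.Etale R (integralClosure R (T ⧸ M.asIdeal)) := fun M => by
    have := hsep M
    have e : algebraMap R (T ⧸ M.asIdeal) = (algebraMap K (T ⧸ M.asIdeal)).comp (algebraMap R K) :=
      IsScalarTower.algebraMap_eq R K _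
    refine etale_integralClosure (K := K) _ fun W hW => ?_
    revert hW
    rw [← e]
    exact fun hW => h _ (Ideal.Quotient.mkₐ R M.asIdeal) Ideal.Quotient.mk_surjective W hW
  let E := ∀ M : MaximalSpectrum T, integralClosure R (T ⧸ M.asIdeal)
  haveI : Finite (MaximalSpectrum T) := inferInstance
  haveI := Fintype.ofFinite (MaximalSpectrum T)
  have : Module.Finite R E := @Module.Finite.pi R _ _ _ _ _ _ fun M => (hE M).1
  have : Algebra.Etale R E := by
    have : ∀ M : MaximalSpectrum T, Algebra.Etale R (integralClosure R (T ⧸ M.asIdeal)) := fun M => (hE M).2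
    have : Algebra.FormallyEtale R E := (Algebra.FormallyEtale.pi_iff _).mpr fun M => inferInstance
    have : Algebra.FinitePresentation R E := Algebra.FinitePresentation.of_finiteType.mp inferInstance
    exact ⟨inferInstance, inferInstance⟩
  let q : T →ₐ[R] ∀ M : MaximalSpectrum T, T ⧸ M.asIdeal := Pi.algHom R _ fun M => Ideal.Quotient.mkₐ R M.asIdeal
  have hq : Function.Bijective q := by
    have : (q : T → _) = IsArtinianRing.equivPi T := funext fun x => funext fun M => (IsArtinianRing.equivPi_apply T x M).symm
    rw [this]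
    exact (IsArtinianRing.equivPi T).bijective
  let eq : T ≃ₐ[R] ∀ M : MaximalSpectrum T, T ⧸ M.asIdeal := AlgEquiv.ofBijective q hq
  let val : E →ₐ[R] ∀ M : MaximalSpectrum T, T ⧸ M.asIdeal :=
    Pi.algHom R _ fun M => (integralClosure R (T ⧸ M.asIdeal)).val.comp (Pi.evalAlgHom R _ M)
  let ψ : E →ₐ[R] T := eq.symm.toAlgHom.comp val
  refine ⟨E, inferInstance, inferInstance, inferInstance, inferInstance, ψ, fun c hc0 hcu => ?_⟩
  letI := ψ.toRingHom.toAlgebra
  have hψ : ∀ (x : E) (M : MaximalSpectrum T), eq (ψ x) M = (x M : T ⧸ M.asIdeal) := fun x M => by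
    show eq (eq.symm (val x)) M = _
    rw [eq.apply_symm_apply]
    rfl
  have hψinj : Function.Injective ψ := fun a b hab => funext fun M => Subtype.ext <| by
    rw [← hψ a M, ← hψ b M, hab]
  have hunit : IsUnit (algebraMap R T c) := by
    rw [IsScalarTower.algebraMap_apply R K T]
    exact (IsUnit.mk0 _ (IsFractionRing.to_map_ne_zero_of_mem_nonZeroDivisors
      (mem_nonZeroDivisors_of_ne_zero hc0))).map _
  obtain ⟨π, hπ⟩ := IsDiscreteValuationRing.exists_irreducible R
  obtain ⟨k, v, hv⟩ := IsDiscreteValuationRing.eq_unit_mul_pow_irreducible hc0 hπ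
  have hk : k ≠ 0 := fun e => hcu (by rw [hv, e, pow_zero, mul_one]; exact v.isUnit)
  refine IsLocalization.Away.mk (algebraMap R E c) ?_ ?_ ?_
  · show IsUnit (ψ (algebraMap R E c))
    rw [AlgHom.commutes]
    exact hunit
  · intro x
    have : ∀ M : MaximalSpectrum T, ∃ n : ℕ, IsIntegral R (algebraMap R (T ⧸ M.asIdeal) c ^ n * eq x M) := fun M => by
      have halg : IsAlgebraic R (eq x M) :=
        (IsFractionRing.isAlgebraic_iff R K (T ⧸ M.asIdeal)).mpr (Algebra.IsAlgebraic.isAlgebraic _)
      obtain ⟨y, hy0, hy⟩ := halg.exists_integral_multiple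
      obtain ⟨n, w, hw⟩ := IsDiscreteValuationRing.eq_unit_mul_pow_irreducible hy0 hπ
      refine ⟨n, ?_⟩
      have h1 : y ∣ c ^ n := by
        rw [hw, hv, mul_pow, ← pow_mul]
        exact ((w.isUnit.mul_left_dvd).mpr (pow_dvd_pow π (Nat.le_mul_of_pos_left n (Nat.pos_of_ne_zero hk)))).trans
          (dvd_mul_left _ _)
      obtain ⟨d, hd⟩ := h1
      rw [← map_pow, hd, mul_comm y d, map_mul, mul_assoc, ← Algebra.smul_def (A := T ⧸ M.asIdeal) y]
      exact isIntegral_algebraMap.mul hy
    choose n hn using this
    let N := Finset.univ.sup n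
    refine ⟨N, fun M => ⟨algebraMap R (T ⧸ M.asIdeal) c ^ N * eq x M, ?_⟩, ?_⟩
    · obtain ⟨j, hj⟩ := Nat.exists_eq_add_of_le (Finset.le_sup (f := n) (Finset.mem_univ M))
      show IsIntegral R _
      rw [show N = j + n M from hj.trans (add_comm _ _), pow_add, mul_assoc]
      exact (isIntegral_algebraMap.pow j).mul (hn M)
    · refine eq.injective (funext fun M => ?_)
      show eq (x * ψ (algebraMap R E c) ^ N) M = eq (ψ _) M
      rw [hψ, AlgHom.commutes, map_mul, Pi.mul_apply, map_pow, Pi.pow_apply, AlgEquiv.commutes, Pi.algebraMap_apply, mul_comm]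
  · intro a b hab
    exact ⟨0, by rw [hψinj hab]⟩

end Groth.Agent.H9Tame
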