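import Mathlib.RingTheory.Unramified.LocalRing
import Mathlib.RingTheory.Nakayama
import Mathlib.FieldTheory.PurelyInseparable.Basic
import Mathlib.RingTheory.Ideal.GoingUp

/-!
# Unramified algebras with purely inseparable residues
-/

set_option autoImplicit false

universe u

open IsLocalRing

namespace Groth.Agent.H9Tame

/-- A finite unramified algebra in which the `p ^ k`-th powers are congruent to scalars is a quotient of the base. -/
theorem surjective_of_unramified_radicial {R E : Type u} [CommRing R] [IsLocalRing R] [CommRing E] [Nontrivial E]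
    [Algebra R E] [Module.Finite R E] [Algebra.FormallyUnramified R E] {p k : ℕ} [Fact p.Prime]
    [CharP (ResidueField R) p]
    (h : ∀ x : E, ∃ b : R, ∀ M : Ideal E, M.IsMaximal → x ^ p ^ k - algebraMap R E b ∈ M) :
    Function.Surjective (algebraMap R E) := by
  have hmax : ∀ M : Ideal E, M.IsMaximal → Ideal.comap (algebraMap R E) M = maximalIdeal R := fun M hM =>
    haveI := hM
    eq_maximalIdeal (Ideal.isMaximal_comap_of_isIntegral_of_isMaximal M)
  have huniq : ∀ M M' : Ideal E, M.IsMaximal → M'.IsMaximal → M ≤ M' := fun M M' hM hM' x hx => by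
    obtain ⟨b, hb⟩ := h x
    have h1 : algebraMap R E b ∈ M := by
      have := M.sub_mem (M.pow_mem_of_mem hx _ (pow_pos (Fact.out : p.Prime).pos k)) (hb M hM)
      rwa [sub_sub_cancel] at this
    have h2 : b ∈ Ideal.comap (algebraMap R E) M' := by
      rw [hmax M' hM', ← hmax M hM]
      exact h1
    have h3 := M'.add_mem (hb M' hM') h2
    rw [sub_add_cancel] at h3
    exact hM'.isPrime.mem_of_pow_mem _ h3
  obtain ⟨M, hM⟩ := Ideal.exists_maximal E
  haveI : IsLocalRing E := IsLocalRing.of_unique_max_ideal
    ⟨M, hM, fun M' hM' => le_antisymm (huniq M' M hM' hM) (huniq M M' hM hM')⟩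
  haveI : IsLocalHom (algebraMap R E) := ((local_hom_TFAE (algebraMap R E)).out 0 4).mpr
    (hmax _ (maximalIdeal.isMaximal E))
  obtain ⟨hsep, hmap⟩ := Algebra.FormallyUnramified.iff_map_maximalIdeal_eq.mp
    (inferInstance : Algebra.FormallyUnramified R E)
  haveI := hsep
  haveI : ExpChar (ResidueField R) p := ExpChar.prime Fact.out
  haveI : IsPurelyInseparable (ResidueField R) (ResidueField E) := by
    rw [isPurelyInseparable_iff_pow_mem (ResidueField R) p]
    intro y
    obtain ⟨x, rfl⟩ := residue_surjective y
    obtain ⟨b, hb⟩ := h x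
    refine ⟨k, residue R b, ?_⟩
    rw [← map_pow]
    show residue E (algebraMap R E b) = residue E (x ^ p ^ k)
    exact ((Ideal.Quotient.eq).mpr (hb _ (maximalIdeal.isMaximal E))).symm
  have hres : Function.Surjective (algebraMap (ResidueField R) (ResidueField E)) :=
    IsPurelyInseparable.surjective_algebraMap_of_isSeparable _ _
  have htop : (⊤ : Submodule R E) ≤ LinearMap.range (Algebra.linearMap R E) ⊔
      maximalIdeal R • (⊤ : Submodule R E) := by
    intro x _
    obtain ⟨y, hy⟩ := hres (residue E x)
    obtain ⟨a, rfl⟩ := residue_surjective y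
    have h1 : x - algebraMap R E a ∈ maximalIdeal E :=
      (Ideal.Quotient.eq).mp (hy.symm.trans rfl)
    rw [← hmap] at h1
    rw [← sub_add_cancel x (algebraMap R E a), add_comm]
    refine Submodule.add_mem_sup ⟨a, rfl⟩ ?_
    rw [Ideal.smul_top_eq_map]
    exact h1
  intro x
  exact Submodule.le_of_le_smul_of_le_jacobson_bot Module.Finite.fg_top
    (maximalIdeal_le_jacobson _) htop (Submodule.mem_top (x := x))

end Groth.Agent.H9Tame
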