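import Groth.Agent.H9Tame.Index

/-!
# The finite etale model at a discrete valuation ring containing a root
-/

set_option autoImplicit false
set_option linter.style.haveILetI false

universe u

open IsLocalRing Groth.Agent.H9Ram
open scoped TensorProduct

namespace Groth.Agent.H9Tame

variable {A : Type u} [CommRing A] [IsDomain A] [IsNoetherianRing A] {r : ℕ} (f : Fin r → A)
  [∀ i, (Ideal.span {f i}).IsPrime] (C : Type u) [CommRing C] [Algebra A C]
  [Algebra (Localization.Away (∏ i, f i)) C] [IsScalarTower A (Localization.Away (∏ i, f i)) C]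
  [Module.Finite (Localization.Away (∏ i, f i)) C] [Algebra.Etale (Localization.Away (∏ i, f i)) C]

variable (hf0 : ∀ i, f i ≠ 0)

include hf0 in
/-- The residue fields of the generic fibre. -/
theorem exists_residueField_algebra (q : Ideal C) [q.IsPrime] (hq : Ideal.comap (algebraMap A C) q = ⊥) :
    ∃ a : Algebra (FractionRing A) q.ResidueField,
      (@algebraMap (FractionRing A) q.ResidueField _ _ a).comp (algebraMap A (FractionRing A)) =
        algebraMap A q.ResidueField ∧
      @FiniteDimensional (FractionRing A) q.ResidueField _ _ a.toModule ∧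
      @Algebra.IsSeparable (FractionRing A) q.ResidueField _ _ a ∧
      @Module.finrank (FractionRing A) q.ResidueField _ _ a.toModule ≤
        Module.finrank (FractionRing A) (FractionRing A ⊗[A] C) := by
  let K := FractionRing A
  let L := q.ResidueField
  have hinj : Function.Injective (algebraMap A L) := by
    rw [injective_iff_map_eq_zero]
    intro x hx
    rw [IsScalarTower.algebraMap_apply A C L, ← RingHom.mem_ker, Ideal.ker_algebraMap_residueField] at hx
    have h2 : x ∈ Ideal.comap (algebraMap A C) q := hx
    rwa [hq, Ideal.mem_bot] at h2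
  obtain ⟨g, hg⟩ : ∃ g : K →+* L, ∀ z, g (algebraMap A K z) = algebraMap A L z :=
    ⟨IsFractionRing.lift (A := A) (K := K) hinj, fun z => IsFractionRing.lift_algebraMap hinj z⟩
  let a : Algebra K L := g.toAlgebra
  have hc : (algebraMap K L).comp (algebraMap A K) = algebraMap A L := RingHom.ext hg
  haveI : IsScalarTower A K L := IsScalarTower.of_algebraMap_eq fun z => (RingHom.congr_fun hc z).symm
  have hs : algebraMap K K (algebraMap A K (∏ i, f i)) ≠ 0 := by
    rw [Algebra.algebraMap_self_apply]
    exact IsFractionRing.to_map_ne_zero_of_mem_nonZeroDivisors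
      (mem_nonZeroDivisors_of_ne_zero (Finset.prod_ne_zero_iff.mpr fun i _ => hf0 i))
  obtain ⟨hfin, hunr⟩ := finite_unramified_baseChange C (s := ∏ i, f i) K K hs
  haveI := hfin
  haveI := hunr
  let φ : K ⊗[A] C →ₐ[K] L :=
    Algebra.TensorProduct.lift (Algebra.ofId K L) (IsScalarTower.toAlgHom A C L) fun _ _ => Commute.all _ _
  have hsurj : Function.Surjective φ := by
    haveI : FiniteDimensional K φ.range :=
      Module.Finite.of_surjective φ.rangeRestrict.toLinearMap φ.rangeRestrict_surjective
    have hfld : IsField φ.range := isField_of_isIntegral_of_isField' (Field.toIsField K)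
    intro x
    obtain ⟨y, z, hz, rfl⟩ := IsFractionRing.div_surjective (C ⧸ q) x
    obtain ⟨y, rfl⟩ := Ideal.Quotient.mk_surjective y
    obtain ⟨z, rfl⟩ := Ideal.Quotient.mk_surjective z
    have hmem : ∀ c : C, algebraMap (C ⧸ q) L (Ideal.Quotient.mk q c) ∈ φ.range := fun c =>
      ⟨1 ⊗ₜ c, by simp [φ]; rfl⟩
    have hz0 : (⟨_, hmem z⟩ : φ.range) ≠ 0 := fun e =>
      IsFractionRing.to_map_ne_zero_of_mem_nonZeroDivisors (K := L) hz (congrArg Subtype.val e)
    obtain ⟨w, hw⟩ := hfld.mul_inv_cancel hz0
    obtain ⟨t, ht⟩ := ((⟨_, hmem y⟩ : φ.range) * w).2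
    refine ⟨t, ht.trans ?_⟩
    show _ * (w : L) = _
    rw [div_eq_mul_inv, eq_inv_of_mul_eq_one_right (congrArg Subtype.val hw)]
  haveI : FiniteDimensional K L := Module.Finite.of_surjective φ.toLinearMap hsurj
  haveI : Algebra.FormallyUnramified K L := Algebra.FormallyUnramified.of_surjective φ hsurj
  refine ⟨a, hc, inferInstance, Algebra.FormallyUnramified.isSeparable K L, ?_⟩
  exact LinearMap.finrank_le_finrank_of_surjective (f := φ.toLinearMap) hsurj

include hf0 in
/-- Over a discrete valuation ring with a root of `f i` of suitable order the cover extends. -/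
theorem exists_local_algebra (htame : SGA1.IsTameAlong f (algebraMap A C)) (i : Fin r) {m : ℕ}
    (hdvd : IndexDvd (Ideal.span {f i}) C m)
    (R : Type u) [CommRing R] [IsDomain R] [IsDiscreteValuationRing R] [Algebra A R]
    (hinj : Function.Injective (algebraMap A R))
    (hP : Ideal.comap (algebraMap A R) (maximalIdeal R) = Ideal.span {f i})
    (t : R) (ht : t ^ m = algebraMap A R (f i)) :
    ∃ (E : Type u) (_ : CommRing E) (_ : Algebra R E) (_ : Module.Finite R E) (_ : Algebra.Etale R E)
      (ψ : E →ₐ[R] R ⊗[A] C), letI := ψ.toRingHom.toAlgebra;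
        IsLocalization.Away (algebraMap R E (algebraMap A R (∏ j, f j))) (R ⊗[A] C) := by
  let P := Ideal.span {f i}
  let s := ∏ j, f j
  let c := algebraMap A R s
  have hc0 : c ≠ 0 := (map_ne_zero_iff _ hinj).mpr (Finset.prod_ne_zero_iff.mpr fun j _ => hf0 j)
  have hcu : ¬ IsUnit c := by
    intro h
    have : s ∈ P := by
      rw [Ideal.mem_span_singleton]; exact Finset.dvd_prod_of_mem f (Finset.mem_univ i)
    rw [← show Ideal.comap (algebraMap A R) (maximalIdeal R) = P from hP] at this
    exact this h
  let K'' := FractionRing R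
  -- the structure of an algebra over the fraction field
  haveI hawayK : IsLocalization.Away c K'' := by
    obtain ⟨π, hπ⟩ := IsDiscreteValuationRing.exists_irreducible R
    obtain ⟨k, v, hv⟩ := IsDiscreteValuationRing.eq_unit_mul_pow_irreducible hc0 hπ
    have hk : k ≠ 0 := fun e => hcu (by rw [hv, e, pow_zero, mul_one]; exact v.isUnit)
    refine IsLocalization.Away.mk c (isUnit_iff_ne_zero.mpr
      (IsFractionRing.to_map_ne_zero_of_mem_nonZeroDivisors (mem_nonZeroDivisors_of_ne_zero hc0))) ?_ fun a b hab =>
        ⟨0, by rw [IsFractionRing.injective R K'' hab]⟩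
    intro x
    obtain ⟨a, b, hb, rfl⟩ := IsFractionRing.div_surjective R x
    obtain ⟨n, w, hw⟩ := IsDiscreteValuationRing.eq_unit_mul_pow_irreducible (nonZeroDivisors.ne_zero hb) hπ
    obtain ⟨d, hd⟩ : b ∣ c ^ n := by
      rw [hw, hv, mul_pow, ← pow_mul]
      exact ((w.isUnit.mul_left_dvd).mpr (pow_dvd_pow π (Nat.le_mul_of_pos_left n (Nat.pos_of_ne_zero hk)))).trans
        (dvd_mul_left _ _)
    refine ⟨n, a * d, ?_⟩
    rw [← map_pow, hd, map_mul, map_mul, ← mul_assoc,
      div_mul_cancel₀ _ (IsFractionRing.to_map_ne_zero_of_mem_nonZeroDivisors hb)]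
  let T := R ⊗[A] C
  have hcT : IsUnit (algebraMap R T c) := by
    have hu : IsUnit (algebraMap A C s) := by
      rw [IsScalarTower.algebraMap_apply A (Localization.Away s) C]
      exact (IsLocalization.Away.algebraMap_isUnit s).map _
    rw [← IsScalarTower.algebraMap_apply A R T,
      ← (Algebra.TensorProduct.includeRight : C →ₐ[A] R ⊗[A] C).commutes s]
    exact hu.map _
  letI : Algebra K'' T := (IsLocalization.Away.lift c hcT).toAlgebra
  haveI : IsScalarTower R K'' T :=
    IsScalarTower.of_algebraMap_eq fun x => (IsLocalization.Away.lift_eq c hcT x).symm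
  obtain ⟨hfin, hunr⟩ := finite_unramified_baseChange C (s := s) R K''
    (IsFractionRing.to_map_ne_zero_of_mem_nonZeroDivisors (mem_nonZeroDivisors_of_ne_zero hc0))
  haveI := hfin
  haveI := hunr
  suffices hF : ∀ (F : Type u) [Field F] [Algebra R F] (φ : T →ₐ[R] F), Function.Surjective φ →
      ∀ (W : ValuationSubring F) (hW : EtRam.Dominates R (algebraMap R F) W),
        TowerExt.UnrAt (algebraMap R F) W hW by
    obtain ⟨E, _, _, hEf, hEe, ψ, hψ⟩ := exists_etale_model (R := R) (K := K'') T hF
    exact ⟨E, inferInstance, inferInstance, hEf, hEe, ψ, hψ c hc0 hcu⟩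
  intro F _ _ φ hφ W hW
  let iC : C →+* F := φ.toRingHom.comp (Algebra.TensorProduct.includeRight : C →ₐ[A] T).toRingHom
  have hRF : (φ : T →+* F).comp (algebraMap R T) = algebraMap R F := φ.comp_algebraMap
  let iK : K'' →+* F := (φ : T →+* F).comp (algebraMap K'' T)
  have hiK : iK.comp (algebraMap R K'') = algebraMap R F := by
    rw [RingHom.comp_assoc, ← IsScalarTower.algebraMap_eq]; exact hRF
  have hCA : iC.comp (algebraMap A C) = (algebraMap R F).comp (algebraMap A R) := by
    refine RingHom.ext fun x => ?_
    show φ ((Algebra.TensorProduct.includeRight : C →ₐ[A] T) (algebraMap A C x)) = algebraMap R F (algebraMap A R x)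
    rw [AlgHom.commutes, IsScalarTower.algebraMap_apply A R T, AlgHom.commutes]
  let q := RingHom.ker iC
  haveI : q.IsPrime := RingHom.ker_isPrime iC
  have hq : Ideal.comap (algebraMap A C) q = ⊥ := by
    rw [RingHom.comap_ker, hCA, ← hiK, RingHom.comp_assoc, ← RingHom.injective_iff_ker_eq_bot]
    exact iK.injective.comp ((IsFractionRing.injective R K'').comp hinj)
  let L := q.ResidueField
  let iL : L →+* F := Ideal.ResidueField.lift q iC le_rfl (fun x hx => by
    exact isUnit_iff_ne_zero.mpr hx)
  have hiL : ∀ x, iL (algebraMap C L x) = iC x := fun x => Ideal.ResidueField.lift_algebraMap ..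
  obtain ⟨aP, htP, hfP⟩ := exists_fraction_algebra (A := A) P
  obtain ⟨aL, haL, hfd, hsep, -⟩ := exists_residueField_algebra f C hf0 q hq
  obtain ⟨hdvr, hirr⟩ := isDVR_localization (hf0 i)
  letI := aP; letI := aL
  haveI := htP; haveI := hfP; haveI := hfd; haveI := hsep; haveI := hdvr
  haveI hIK : IsScalarTower A (Localization.AtPrime P) (FractionRing A) := htP
  letI : Algebra (Localization.AtPrime P) R :=
    (IsLocalization.lift (M := P.primeCompl) (g := algebraMap A R) fun y => of_not_not fun h =>
      y.2 ((SetLike.ext_iff.mp hP (y : A)).mp h)).toAlgebra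
  have hAR : ∀ x, algebraMap (Localization.AtPrime P) R (algebraMap A _ x) = algebraMap A R x :=
    fun x => IsLocalization.lift_eq _ x
  haveI : IsLocalHom (algebraMap (Localization.AtPrime P) R) := ⟨fun z hz => by
    obtain ⟨x, y, rfl⟩ := IsLocalization.exists_mk'_eq P.primeCompl z
    refine (IsLocalization.AtPrime.isUnit_mk'_iff _ P x y).mpr fun hx => ?_
    have h1 : IsUnit (algebraMap A R x) := by
      have := hz.mul ((IsLocalization.map_units (Localization.AtPrime P) y).map (algebraMap (Localization.AtPrime P) R))
      rwa [← map_mul, IsLocalization.mk'_spec, hAR] at this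
    rw [← show Ideal.comap (algebraMap A R) (maximalIdeal R) = P from hP] at hx
    exact hx h1⟩
  have hj : Function.Injective ((algebraMap R K'').comp (algebraMap A R)) :=
    (IsFractionRing.injective R K'').comp hinj
  obtain ⟨j, hjA⟩ : ∃ j : FractionRing A →+* K'', ∀ z, j (algebraMap A _ z) = algebraMap R K'' (algebraMap A R z) :=
    ⟨IsFractionRing.lift hj, fun z => IsFractionRing.lift_algebraMap hj z⟩
  letI : Algebra (FractionRing A) K'' := j.toAlgebra
  have hKK : (algebraMap (FractionRing A) K'').comp (algebraMap A (FractionRing A)) =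
      (algebraMap R K'').comp (algebraMap A R) :=
    RingHom.ext hjA
  have hgen : ∀ x : F, x ∈ Subfield.closure (Set.range iL ∪ Set.range iK) := by
    intro x
    obtain ⟨z, rfl⟩ := hφ x
    induction z using TensorProduct.induction_on with
    | zero => rw [map_zero]; exact zero_mem _
    | add a b ha hb => rw [map_add]; exact add_mem ha hb
    | tmul b c =>
      have e : φ (b ⊗ₜ c) = iK (algebraMap R K'' b) * iL (algebraMap C L c) := by
        rw [hiL, show iK (algebraMap R K'' b) = φ (b ⊗ₜ 1) from
          (RingHom.congr_fun hiK b).trans (φ.commutes b).symm]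
        show _ = φ _ * φ (1 ⊗ₜ c)
        rw [← map_mul, Algebra.TensorProduct.tmul_mul_tmul, mul_one, one_mul]
      rw [e]
      exact mul_mem (Subfield.subset_closure (Or.inr ⟨_, rfl⟩)) (Subfield.subset_closure (Or.inl ⟨_, rfl⟩))
  have hgr : (algebraMap (FractionRing A) L).comp (algebraMap (Localization.AtPrime P) (FractionRing A)) =
      SGA1.genericResidueMap (algebraMap A C) P q hq := by
    refine IsLocalization.ringHom_ext P.primeCompl (RingHom.ext fun x => ?_)
    show algebraMap (FractionRing A) L (algebraMap _ (FractionRing A) (algebraMap A _ x)) =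
      SGA1.genericResidueMap (algebraMap A C) P q hq (algebraMap A _ x)
    rw [← IsScalarTower.algebraMap_apply A (Localization.AtPrime P) (FractionRing A), SGA1.genericResidueMap, IsLocalization.lift_eq]
    exact (RingHom.congr_fun haL x).trans (IsScalarTower.algebraMap_apply A C L x)
  revert hW
  rw [← hiK]
  intro hW
  unfold TowerExt.UnrAt
  intro _
  refine unrAt_of_root (A₀ := Localization.AtPrime P) (K := FractionRing A) (L := L) (R' := R)
    (K'' := K'') (F := F) iL iK ?_ ?_ hgen ?_ hirr (m := m) ?_ t ?_ W hW
  · refine IsLocalization.ringHom_ext P.primeCompl (RingHom.ext fun x => ?_)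
    show algebraMap (FractionRing A) K'' (algebraMap _ (FractionRing A) (algebraMap A _ x)) =
      algebraMap R K'' (algebraMap _ R (algebraMap A _ x))
    rw [← IsScalarTower.algebraMap_apply A (Localization.AtPrime P) (FractionRing A), hAR]
    exact RingHom.congr_fun hKK x
  · refine IsLocalization.ringHom_ext (nonZeroDivisors A) (RingHom.ext fun x => ?_)
    show iL (algebraMap (FractionRing A) L (algebraMap A _ x)) = iK (algebraMap (FractionRing A) K'' (algebraMap A _ x))
    rw [show algebraMap (FractionRing A) L (algebraMap A _ x) = algebraMap C L (algebraMap A C x) from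
        (RingHom.congr_fun haL x).trans (IsScalarTower.algebraMap_apply A C L x),
      show algebraMap (FractionRing A) K'' (algebraMap A _ x) = algebraMap R K'' (algebraMap A R x) from
        RingHom.congr_fun hKK x, hiL]
    exact (RingHom.congr_fun hCA x).trans (RingHom.congr_fun hiK _).symm
  · rw [hgr]; exact htame i q hq
  · rw [hgr]; exact hdvd q hq
  · rw [ht, hAR]

end Groth.Agent.H9Tame
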