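import Groth.Prelude.Def_FEt
import Mathlib.AlgebraicGeometry.Pullbacks
import Mathlib.AlgebraicGeometry.AffineScheme
import Mathlib.AlgebraicGeometry.Morphisms.Finite
import Mathlib.RingTheory.RingHom.Etale
import Mathlib.RingTheory.Localization.Away.Basic

/-!
# Extensions of finite etale covers of a basic open, read on rings
-/

set_option autoImplicit false

universe u

open AlgebraicGeometry CategoryTheory CategoryTheory.Limits
open scoped TensorProduct

noncomputable section

namespace Groth.Agent.H9Tame.Translate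

variable {A : Type u} [CommRing A] {U : (Spec (CommRingCat.of A)).Opens} (V : FEt.Cat (U : Scheme.{u}))
  (C : Type u) [CommRing C] [Algebra A C] (eV : V.left ≅ Spec (CommRingCat.of C))
  (heV : eV.hom ≫ Spec.map (CommRingCat.ofHom (algebraMap A C)) = V.hom ≫ U.ι)
  (R : Type u) [CommRing R] [Algebra A R] {P : Scheme.{u}} {a : P ⟶ (U : Scheme.{u})}
  {b : P ⟶ Spec (CommRingCat.of R)}
  (hP : IsPullback a b U.ι (Spec.map (CommRingCat.ofHom (algebraMap A R))))

include eV heV hP in
/-- The cover pulled back to `P` is the spectrum of the tensor product. -/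
theorem exists_iso_tensor : ∃ e : ((FEt.restrict a).obj V).left ≅ Spec (CommRingCat.of (R ⊗[A] C)),
    e.hom ≫ Spec.map (CommRingCat.ofHom (algebraMap R (R ⊗[A] C))) = ((FEt.restrict a).obj V).hom ≫ b := by
  have h1 : IsPullback (pullback.fst V.hom a) (pullback.snd V.hom a ≫ b) (V.hom ≫ U.ι)
      (Spec.map (CommRingCat.ofHom (algebraMap A R))) :=
    (IsPullback.of_hasPullback V.hom a).flip.paste_horiz hP.flip |>.flip
  have h2 : IsPullback (pullback.fst (Spec.map (CommRingCat.ofHom (algebraMap A R)))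
      (Spec.map (CommRingCat.ofHom (algebraMap A C))))
      (pullback.snd _ _ ≫ eV.inv) (Spec.map (CommRingCat.ofHom (algebraMap A R))) (V.hom ≫ U.ι) := by
    refine IsPullback.of_iso (IsPullback.of_hasPullback _ _) (Iso.refl _) (Iso.refl _) eV.symm (Iso.refl _) ?_ ?_ ?_ ?_
    · simp
    · simp
    · simp
    · simp [← heV]
  refine ⟨h1.flip.isoPullback ≪≫ h2.isoPullback.symm ≪≫ pullbackSpecIso A R C, ?_⟩
  show (h1.flip.isoPullback ≪≫ h2.isoPullback.symm ≪≫ pullbackSpecIso A R C).hom ≫ _ = pullback.snd V.hom a ≫ b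
  rw [Iso.trans_hom, Iso.trans_hom, Iso.symm_hom, Category.assoc, Category.assoc, pullbackSpecIso_hom_fst]
  erw [h2.isoPullback_inv_fst, h1.flip.isoPullback_hom_fst]

omit V C in
include hP in
theorem range_b {s : A} (hU : U = PrimeSpectrum.basicOpen s) :
    Set.range b = (↑(PrimeSpectrum.basicOpen (algebraMap A R s)) : Set (PrimeSpectrum R)) := by
  rw [← hP.isoPullback_hom_snd, Scheme.Hom.comp_base, TopCat.coe_comp, Set.range_comp,
    Set.range_eq_univ.mpr (Scheme.Hom.surjective _), Set.image_univ, Scheme.Pullback.range_snd, Scheme.Opens.range_ι, hU]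
  rfl

variable {s : A} (hU : U = PrimeSpectrum.basicOpen s)

include eV heV hP hU in
/-- A finite etale algebra inverting to the tensor product gives an extension. -/
theorem iso_of_algebra {E : Type u} [CommRing E] [Algebra R E] (ψ : E →ₐ[R] R ⊗[A] C)
    (hψ : letI := ψ.toRingHom.toAlgebra; IsLocalization.Away (algebraMap R E (algebraMap A R s)) (R ⊗[A] C))
    (W : FEt.Cat (Spec (CommRingCat.of R))) (eW : W.left ≅ Spec (CommRingCat.of E))
    (heW : eW.hom ≫ Spec.map (CommRingCat.ofHom (algebraMap R E)) = W.hom) :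
    Nonempty ((FEt.restrict b).obj W ≅ (FEt.restrict a).obj V) := by
  letI := ψ.toRingHom.toAlgebra
  haveI := hψ
  haveI hb : IsOpenImmersion b := MorphismProperty.of_isPullback hP inferInstance
  obtain ⟨e, he⟩ := exists_iso_tensor V C eV heV R hP
  let j : Spec (CommRingCat.of (R ⊗[A] C)) ⟶ Spec (CommRingCat.of E) :=
    Spec.map (CommRingCat.ofHom ψ.toRingHom)
  haveI : IsOpenImmersion j :=
    IsOpenImmersion.of_isLocalization (R := E) (S := R ⊗[A] C) (algebraMap R E (algebraMap A R s))
  have hj : Set.range j = (↑(PrimeSpectrum.basicOpen (algebraMap R E (algebraMap A R s))) : Set (PrimeSpectrum E)) :=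
    PrimeSpectrum.localization_away_comap_range _ _
  have hjb : j ≫ Spec.map (CommRingCat.ofHom (algebraMap R E)) =
      Spec.map (CommRingCat.ofHom (algebraMap R (R ⊗[A] C))) := by
    rw [← Spec.map_comp, ← CommRingCat.ofHom_comp]
    exact congrArg (fun φ => Spec.map (CommRingCat.ofHom φ)) ψ.comp_algebraMap
  let p : pullback W.hom b ⟶ W.left := pullback.fst _ _
  have hp : Set.range (p ≫ eW.hom) = Set.range j := by
    rw [hj, Scheme.Hom.comp_base, TopCat.coe_comp, Set.range_comp, Scheme.Pullback.range_fst, range_b R hP hU, ← heW]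
    ext x
    simp only [Set.mem_image, Set.mem_preimage, Scheme.Hom.comp_apply]
    constructor
    · rintro ⟨w, hw, rfl⟩
      exact hw
    · intro hx
      exact ⟨eW.inv x, by rw [← Scheme.Hom.comp_apply eW.inv, Iso.inv_hom_id]; exact hx, by
        rw [← Scheme.Hom.comp_apply eW.inv, Iso.inv_hom_id]; rfl⟩
  haveI : IsOpenImmersion p := inferInstanceAs (IsOpenImmersion (pullback.fst W.hom b))
  let k := IsOpenImmersion.isoOfRangeEq (p ≫ eW.hom) j hp
  refine ⟨MorphismProperty.Over.isoMk (k ≪≫ e.symm) ?_⟩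
  show (k ≪≫ e.symm).hom ≫ ((FEt.restrict a).obj V).hom = pullback.snd W.hom b
  rw [← cancel_mono b, Iso.trans_hom, Iso.symm_hom, Category.assoc, Category.assoc, ← he, Iso.inv_hom_id_assoc,
    ← hjb, ← Category.assoc k.hom, IsOpenImmersion.isoOfRangeEq_hom_fac, Category.assoc, heW, pullback.condition]

include eV heV hP hU in
/-- An extension gives a finite etale algebra inverting to the tensor product. -/
theorem algebra_of_iso (W : FEt.Cat (Spec (CommRingCat.of R)))
    (h : Nonempty ((FEt.restrict b).obj W ≅ (FEt.restrict a).obj V)) :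
    ∃ (E : Type u) (_ : CommRing E) (_ : Algebra R E) (_ : Module.Finite R E) (_ : Algebra.Etale R E)
      (ψ : E →ₐ[R] R ⊗[A] C),
      letI := ψ.toRingHom.toAlgebra; IsLocalization.Away (algebraMap R E (algebraMap A R s)) (R ⊗[A] C) := by
  obtain ⟨h⟩ := h
  haveI hfin : IsFinite W.hom := W.prop.1
  haveI het : Etale W.hom := W.prop.2
  haveI : IsAffine ((Functor.fromPUnit (Spec (CommRingCat.of R))).obj W.right) :=
    inferInstanceAs (IsAffine (Spec (CommRingCat.of R)))
  haveI : IsAffine W.left := isAffine_of_isAffineHom W.hom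
  let φ : CommRingCat.of R ⟶ Γ(W.left, ⊤) := Spec.preimage (W.left.isoSpec.inv ≫ W.hom)
  have hφ : Spec.map φ = W.left.isoSpec.inv ≫ W.hom := Spec.map_preimage _
  have hf : IsFinite (Spec.map φ) := hφ ▸ MorphismProperty.comp_mem _ _ _ inferInstance hfin
  have he' : Etale (Spec.map φ) := hφ ▸ MorphismProperty.comp_mem _ _ _ inferInstance het
  rw [IsFinite.SpecMap_iff] at hf
  rw [HasRingHomProperty.Spec_iff (P := @Etale)] at he'
  letI : Algebra R Γ(W.left, ⊤) := φ.hom.toAlgebra
  haveI : Module.Finite R Γ(W.left, ⊤) := hf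
  haveI : Algebra.Etale R Γ(W.left, ⊤) := he'
  haveI hb : IsOpenImmersion b := MorphismProperty.of_isPullback hP inferInstance
  obtain ⟨e, he⟩ := exists_iso_tensor V C eV heV R hP
  let hL : ((FEt.restrict a).obj V).left ≅ ((FEt.restrict b).obj W).left :=
    ((MorphismProperty.Over.forget _ _ _ ⋙ Over.forget _).mapIso h).symm
  let j : Spec (CommRingCat.of (R ⊗[A] C)) ⟶ Spec Γ(W.left, ⊤) :=
    e.inv ≫ hL.hom ≫ pullback.fst W.hom b ≫ W.left.isoSpec.hom
  haveI : IsOpenImmersion (pullback.fst W.hom b) := inferInstance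
  let p : ((FEt.restrict b).obj W).left ⟶ W.left := pullback.fst W.hom b
  haveI : IsOpenImmersion p := inferInstanceAs (IsOpenImmersion (pullback.fst W.hom b))
  haveI : IsOpenImmersion j := inferInstanceAs (IsOpenImmersion (e.inv ≫ hL.hom ≫ p ≫ W.left.isoSpec.hom))
  have hjR : j ≫ Spec.map φ = Spec.map (CommRingCat.ofHom (algebraMap R (R ⊗[A] C))) := by
    rw [hφ]
    show (e.inv ≫ hL.hom ≫ pullback.fst W.hom b ≫ W.left.isoSpec.hom) ≫ W.left.isoSpec.inv ≫ W.hom = _
    simp only [Category.assoc, Iso.hom_inv_id_assoc]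
    have hc : pullback.fst W.hom b ≫ W.hom = ((FEt.restrict b).obj W).hom ≫ b := pullback.condition
    erw [hc]
    rw [← cancel_epi e.hom, Iso.hom_inv_id_assoc, he, ← Category.assoc]
    exact congrArg (· ≫ b) (Over.w h.inv.hom)
  let ψ₀ : Γ(W.left, ⊤) ⟶ CommRingCat.of (R ⊗[A] C) := Spec.preimage j
  have hψ₀ : Spec.map ψ₀ = j := Spec.map_preimage j
  have hcomm : φ ≫ ψ₀ = CommRingCat.ofHom (algebraMap R (R ⊗[A] C)) := Spec.map_injective (by rw [Spec.map_comp, hψ₀, hjR])
  let ψ : Γ(W.left, ⊤) →ₐ[R] R ⊗[A] C :=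
    { ψ₀.hom with commutes' := fun r => RingHom.congr_fun (congrArg CommRingCat.Hom.hom hcomm) r }
  refine ⟨Γ(W.left, ⊤), inferInstance, inferInstance, inferInstance, inferInstance, ψ, ?_⟩
  let f₀ : Γ(W.left, ⊤) := algebraMap R Γ(W.left, ⊤) (algebraMap A R s)
  letI := ψ.toRingHom.toAlgebra
  have hrange : Set.range j = (↑(PrimeSpectrum.basicOpen f₀) : Set (PrimeSpectrum Γ(W.left, ⊤))) := by
    have h1 : Set.range j = Set.range (pullback.fst W.hom b ≫ W.left.isoSpec.hom) := by
      show Set.range ((e.inv ≫ hL.hom) ≫ p ≫ W.left.isoSpec.hom).base = Set.range (p ≫ W.left.isoSpec.hom).base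
      rw [Scheme.Hom.comp_base, TopCat.coe_comp, Set.range_comp, Set.range_eq_univ.mpr (Scheme.Hom.surjective _), Set.image_univ]
    rw [h1, Scheme.Hom.comp_base, TopCat.coe_comp, Set.range_comp, Scheme.Pullback.range_fst, range_b R hP hU]
    ext x
    simp only [Set.mem_image, Set.mem_preimage]
    constructor
    · rintro ⟨w, hw, rfl⟩
      have : W.hom = W.left.isoSpec.hom ≫ Spec.map φ := by rw [hφ, Iso.hom_inv_id_assoc]
      rw [this] at hw
      exact hw
    · intro hx
      refine ⟨W.left.isoSpec.inv x, ?_, by rw [← Scheme.Hom.comp_apply, Iso.inv_hom_id]; rfl⟩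
      rw [← Scheme.Hom.comp_apply, ← hφ]
      exact hx
  let L := Localization.Away f₀
  let l : Spec (CommRingCat.of L) ⟶ Spec Γ(W.left, ⊤) := Spec.map (CommRingCat.ofHom (algebraMap _ L))
  haveI : IsOpenImmersion l := IsOpenImmersion.of_isLocalization (R := Γ(W.left, ⊤)) (S := L) f₀
  let k := IsOpenImmersion.isoOfRangeEq j l (hrange.trans (PrimeSpectrum.localization_away_comap_range L f₀).symm)
  let g : CommRingCat.of L ⟶ CommRingCat.of (R ⊗[A] C) := Spec.preimage k.hom
  have hg : Spec.map g = k.hom := Spec.map_preimage _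
  haveI : IsIso g := by
    haveI : IsIso (Spec.map g) := hg ▸ inferInstance
    haveI : IsIso (Scheme.Spec.map g.op) := inferInstanceAs (IsIso (Spec.map g))
    haveI : IsIso g.op := isIso_of_reflects_iso g.op Scheme.Spec
    exact isIso_of_op g
  have hgc : CommRingCat.ofHom (algebraMap _ L) ≫ g = ψ₀ := Spec.map_injective (by
    rw [Spec.map_comp, hg, hψ₀]; exact IsOpenImmersion.isoOfRangeEq_hom_fac _ _ _)
  let g' : L ≃ₐ[Γ(W.left, ⊤)] R ⊗[A] C :=
    { (asIso g).commRingCatIsoToRingEquiv with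
      commutes' := fun x => RingHom.congr_fun (congrArg CommRingCat.Hom.hom hgc) x }
  exact IsLocalization.isLocalization_of_algEquiv (Submonoid.powers f₀) g'

end Groth.Agent.H9Tame.Translate
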