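import Groth.Agent.S0287
import Groth.Agent.H9Tame.Translate
import Groth.Agent.H9Tame.LocalAlgebra
import Groth.Agent.H9Et.Kummer
import Groth.Agent.H06FlatSub.Basic
import Mathlib.RingTheory.Ideal.GoingDown
import Mathlib.RingTheory.Ideal.KrullsHeightTheorem

/-!
# Extension of tame covers to Kummer coverings
-/

set_option autoImplicit false
set_option linter.style.haveILetI false

universe u

open IsLocalRing AlgebraicGeometry CategoryTheory CategoryTheory.Limits
open scoped TensorProduct

noncomputable section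

namespace Groth.Agent.H9Tame

variable {A : Type u} [CommRing A]

/-- The structure map of a cover of an open of `Spec A`. -/
abbrev coverHom {U : (Spec (CommRingCat.of A)).Opens} (V : FEt.Cat (U : Scheme.{u})) : A →+* Γ(V.left, ⊤) :=
  ((V.hom ≫ U.ι).appTop).hom.comp (Scheme.ΓSpecIso (CommRingCat.of A)).inv.hom

theorem specMap_coverHom {U : (Spec (CommRingCat.of A)).Opens} (V : FEt.Cat (U : Scheme.{u})) [IsAffine V.left] :
    V.left.isoSpec.hom ≫ Spec.map (CommRingCat.ofHom (coverHom V)) = V.hom ≫ U.ι := by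
  show V.left.toSpecΓ ≫ Spec.map ((Scheme.ΓSpecIso (CommRingCat.of A)).inv ≫ (V.hom ≫ U.ι).appTop) = _
  rw [Spec.map_comp, ← Scheme.toSpecΓ_naturality_assoc, ← SpecMap_ΓSpecIso_hom, ← Spec.map_comp,
    Iso.inv_hom_id, Spec.map_id, Category.comp_id]

/-- The cover is finite etale over the ring of the basic open. -/
theorem cover_algebra {s : A} (V : FEt.Cat ((SGA1.specBasicOpen A s) : Scheme.{u})) :
    IsAffine V.left ∧ (letI := (coverHom V).toAlgebra
    ∃ a : Algebra (Localization.Away s) Γ(V.left, ⊤),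
      @IsScalarTower A (Localization.Away s) Γ(V.left, ⊤) _ a.toSMul _ ∧
      @Module.Finite (Localization.Away s) Γ(V.left, ⊤) _ _ a.toModule ∧
      @Algebra.Etale (Localization.Away s) Γ(V.left, ⊤) _ _ a) := by
  let e : (SGA1.specBasicOpen A s : Scheme.{u}) ≅ Spec (CommRingCat.of (Localization.Away s)) :=
    basicOpenIsoSpecAway (R := CommRingCat.of A) s
  haveI : IsAffine (SGA1.specBasicOpen A s : Scheme.{u}) := IsAffine.of_isIso e.hom
  haveI : IsAffine ((Functor.fromPUnit (SGA1.specBasicOpen A s : Scheme.{u})).obj V.right) :=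
    inferInstanceAs (IsAffine (SGA1.specBasicOpen A s : Scheme.{u}))
  haveI : IsFinite V.hom := V.prop.1
  haveI : IsAffine V.left := isAffine_of_isAffineHom V.hom
  refine ⟨inferInstance, ?_⟩
  letI := (coverHom V).toAlgebra
  let ψ : CommRingCat.of (Localization.Away s) ⟶ Γ(V.left, ⊤) :=
    Spec.preimage (V.left.isoSpec.inv ≫ V.hom ≫ e.hom)
  have hψ : Spec.map ψ = V.left.isoSpec.inv ≫ V.hom ≫ e.hom := Spec.map_preimage _
  have hcomp : CommRingCat.ofHom (algebraMap A (Localization.Away s)) ≫ ψ = CommRingCat.ofHom (coverHom V) := by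
    apply Spec.map_injective
    rw [Spec.map_comp, hψ, ← cancel_epi V.left.isoSpec.hom]
    erw [specMap_coverHom]
    simp only [Category.assoc, Iso.hom_inv_id_assoc]
    exact congrArg (V.hom ≫ ·) (basicOpenIsoSpecAway_hom_SpecMap (R := CommRingCat.of A) s)
  have hfin : IsFinite (Spec.map ψ) := hψ ▸ MorphismProperty.comp_mem _ _ _ inferInstance
    (MorphismProperty.comp_mem _ _ _ V.prop.1 inferInstance)
  have het : Etale (Spec.map ψ) := hψ ▸ MorphismProperty.comp_mem _ _ _ inferInstance
    (MorphismProperty.comp_mem _ _ _ V.prop.2 inferInstance)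
  rw [IsFinite.SpecMap_iff] at hfin
  rw [HasRingHomProperty.Spec_iff (P := @Etale)] at het
  refine ⟨ψ.hom.toAlgebra, ?_, hfin, het⟩
  letI := ψ.hom.toAlgebra
  exact IsScalarTower.of_algebraMap_eq fun x => (RingHom.congr_fun (congrArg CommRingCat.Hom.hom hcomp) x).symm

/-- A height one prime containing a generator of a prime ideal equals it. -/
theorem eq_span_of_mem_of_height_le_one [IsDomain A] [IsNoetherianRing A] {x : A} (hx0 : x ≠ 0)
    [(Ideal.span {x}).IsPrime] (P : Ideal A) [P.IsPrime] (hx : x ∈ P) (hP : P.height ≤ 1) :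
    P = Ideal.span {x} := by
  by_contra h
  have hlt : Ideal.span {x} < P := lt_of_le_of_ne ((Ideal.span_singleton_le_iff_mem P).mpr hx) (Ne.symm h)
  haveI : (⊥ : Ideal A).IsPrime := Ideal.isPrime_bot
  have h4 := Ideal.height_strict_mono_of_isPrime
    (bot_lt_iff_ne_bot.mpr fun e => hx0 (Ideal.span_singleton_eq_bot.mp e) : (⊥ : Ideal A) < Ideal.span {x})
  have h5 := (Ideal.height_strict_mono_of_isPrime hlt).trans_le hP
  rw [ENat.lt_one_iff_eq_zero.mp h5] at h4
  exact not_lt_zero h4

section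

variable [IsRegularLocalRing A] [IsDomain A] {r : ℕ} (f : Fin r → A) [∀ i, (Ideal.span {f i}).IsPrime]
  (hm : ∀ i, f i ∈ maximalIdeal A)
  (hf : LinearIndependent (ResidueField A) (fun i => (maximalIdeal A).toCotangent ⟨f i, hm i⟩))
  {n : Fin r → ℕ} (hn : ∀ i, 1 ≤ n i)

include hf in
theorem ne_zero_of_linearIndependent (j : Fin r) : f j ≠ 0 := fun h => by
  refine hf.ne_zero j ?_
  rw [show (⟨f j, hm j⟩ : maximalIdeal A) = 0 from Subtype.ext h, map_zero]

omit hm hf hn in
/-- The local extension at a discrete valuation ring, as schemes. -/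
theorem exists_local_cover (hf0 : ∀ i, f i ≠ 0) (V : FEt.Cat ((SGA1.specBasicOpen A (∏ i, f i)) : Scheme.{u}))
    (htame : SGA1.IsTameAlong f (coverHom V)) (i : Fin r) {m : ℕ}
    (hdvd : letI := (coverHom V).toAlgebra; IndexDvd (Ideal.span {f i}) Γ(V.left, ⊤) m)
    (R : Type u) [CommRing R] [IsDomain R] [IsDiscreteValuationRing R] [Algebra A R]
    (hinj : Function.Injective (algebraMap A R))
    (hP : Ideal.comap (algebraMap A R) (maximalIdeal R) = Ideal.span {f i})
    (t : R) (ht : t ^ m = algebraMap A R (f i)) {P : Scheme.{u}}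
    {a : P ⟶ (SGA1.specBasicOpen A (∏ i, f i) : Scheme.{u})} {b : P ⟶ Spec (CommRingCat.of R)}
    (hab : IsPullback a b (SGA1.specBasicOpen A (∏ i, f i)).ι (Spec.map (CommRingCat.ofHom (algebraMap A R)))) :
    ∃ W : FEt.Cat (Spec (CommRingCat.of R)), Nonempty ((FEt.restrict b).obj W ≅ (FEt.restrict a).obj V) := by
  obtain ⟨hVaff, hCalg⟩ := cover_algebra V
  haveI := hVaff
  let C := Γ(V.left, ⊤)
  letI : Algebra A C := (coverHom V).toAlgebra
  obtain ⟨aC, htC, hfC, heC⟩ := hCalg
  letI := aC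
  haveI := htC; haveI := hfC; haveI := heC
  obtain ⟨E, _, _, hEf, hEe, ψ, hψ⟩ := exists_local_algebra f C hf0 htame i hdvd R hinj hP t ht
  let W : FEt.Cat (Spec (CommRingCat.of R)) :=
    MorphismProperty.Over.mk ⊤ (Spec.map (CommRingCat.ofHom (algebraMap R E)))
      ⟨(IsFinite.SpecMap_iff _).mpr (RingHom.finite_algebraMap.mpr hEf),
        (HasRingHomProperty.Spec_iff (P := @Etale)).mpr (RingHom.etale_algebraMap.mpr hEe)⟩
  exact ⟨W, Translate.iso_of_algebra V C V.left.isoSpec (specMap_coverHom V) R hab (s := ∏ i, f i) rfl ψ hψ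
    W (Iso.refl _) (Category.id_comp _)⟩

include hm hf hn in
/-- Tame covers extend over Kummer coverings of sufficiently divisible exponents. -/
theorem exists_extension (V : FEt.Cat ((SGA1.specBasicOpen A (∏ i, f i)) : Scheme.{u}))
    (htame : SGA1.IsTameAlong f (coverHom V))
    (hdvd : letI := (coverHom V).toAlgebra; ∀ i, IndexDvd (Ideal.span {f i}) Γ(V.left, ⊤) (n i)) :
    ∃ W : FEt.Cat (Spec (CommRingCat.of (SGA1.kummerAlg A f n))),
      Nonempty ((FEt.restrict ((Spec.map (CommRingCat.ofHom (algebraMap A (SGA1.kummerAlg A f n)))) ⁻¹ᵁ (SGA1.specBasicOpen A (∏ i, f i))).ι).obj W ≅ (FEt.restrict ((Spec.map (CommRingCat.ofHom (algebraMap A (SGA1.kummerAlg A f n)))) ∣_ (SGA1.specBasicOpen A (∏ i, f i)))).obj V) := by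
  classical
  let A' := SGA1.kummerAlg A f n
  let g := Spec.map (CommRingCat.ofHom (algebraMap A A'))
  let U := SGA1.specBasicOpen A (∏ i, f i)
  let U' := g ⁻¹ᵁ U
  let s' := algebraMap A A' (∏ i, f i)
  have hf0 := ne_zero_of_linearIndependent f hm hf
  haveI hreg' : IsRegularLocalRing A' := H9Et.Kummer.isRegularLocalRing f hn hm hf
  haveI : IsDomain A' := H4Depth.isDomain_of_isRegularLocalRing A'
  haveI : Module.Flat A A' := H9Et.Kummer.flat f hn hm hf
  have hinj' : Function.Injective (algebraMap A A') := H9Et.Kummer.injective_algebraMap f hn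
  have hs' : s' ≠ 0 := (map_ne_zero_iff _ hinj').mpr (Finset.prod_ne_zero_iff.mpr fun i _ => hf0 i)
  haveI : IsNoetherianRing A' := inferInstance
  haveI : IsLocallyNoetherian (Spec (CommRingCat.of A')) := inferInstance
  have hU'eq : U' = PrimeSpectrum.basicOpen s' := rfl
  refine S0287.result (X := Spec (CommRingCat.of A')) U' ?_ ((FEt.restrict (g ∣_ U)).obj V) ?_ ?_
  · refine U'.2.dense ?_
    exact ⟨(⟨⊥, Ideal.isPrime_bot⟩ : PrimeSpectrum A'), show s' ∉ (⊥ : Ideal A') from fun h => hs' (Ideal.mem_bot.mp h)⟩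
  · intro x _
    letI : Algebra A' ((Spec (CommRingCat.of A')).presheaf.stalk x) :=
      (StructureSheaf.toStalk A' x).hom.toAlgebra
    haveI : IsLocalization.AtPrime ((Spec (CommRingCat.of A')).presheaf.stalk x) x.asIdeal :=
      StructureSheaf.IsLocalization.to_stalk A' x
    haveI := H05EGA4.isRegularLocalRing_localization A' x.asIdeal
    let e : Localization.AtPrime x.asIdeal ≃+* (Spec (CommRingCat.of A')).presheaf.stalk x :=
      (IsLocalization.algEquiv x.asIdeal.primeCompl (Localization.AtPrime x.asIdeal)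
        ((Spec (CommRingCat.of A')).presheaf.stalk x)).toRingEquiv
    exact IsRegularLocalRing.of_ringEquiv (R := Localization.AtPrime x.asIdeal) e
  intro ξ hξ hdim
  let R := (Spec (CommRingCat.of A')).presheaf.stalk ξ
  let Q := ξ.asIdeal
  haveI : Q.IsPrime := ξ.2
  letI : Algebra A' R := (StructureSheaf.toStalk A' ξ).hom.toAlgebra
  haveI : IsLocalization.AtPrime R Q := StructureSheaf.IsLocalization.to_stalk A' ξ
  letI : Algebra A R := ((algebraMap A' R).comp (algebraMap A A')).toAlgebra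
  let eQ : Localization.AtPrime Q ≃+* R :=
    (IsLocalization.algEquiv Q.primeCompl (Localization.AtPrime Q) R).toRingEquiv
  haveI := H05EGA4.isRegularLocalRing_localization A' Q
  haveI : IsRegularLocalRing R := IsRegularLocalRing.of_ringEquiv (R := Localization.AtPrime Q) eQ
  haveI : IsDomain R := H4Depth.isDomain_of_isRegularLocalRing R
  have hinjR : Function.Injective (algebraMap A R) :=
    (IsLocalization.injective R Q.primeCompl_le_nonZeroDivisors).comp hinj'
  have hs'Q : s' ∈ Q := not_not.mp hξ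
  have hnf : ¬ IsField R := fun hF => by
    have h0 := IsLocalRing.isField_iff_maximalIdeal_eq.mp hF
    have h1 : algebraMap A' R s' ∈ maximalIdeal R :=
      (IsLocalization.AtPrime.to_map_mem_maximal_iff R Q s').mpr hs'Q
    rw [h0, Ideal.mem_bot, map_eq_zero_iff _ (IsLocalization.injective R Q.primeCompl_le_nonZeroDivisors)] at h1
    exact hs' h1
  haveI : IsDiscreteValuationRing R := H06FlatSub.isDVR_of_regular hdim.le hnf
  -- the prime downstairs
  have hQ1 : Q.height = 1 := WithBot.coe_injective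
    ((IsLocalization.AtPrime.ringKrullDim_eq_height Q R).symm.trans hdim)
  let P := Ideal.comap (algebraMap A A') Q
  haveI : Q.LiesOver P := ⟨rfl⟩
  have hPle : P.height ≤ 1 := by
    rw [← hQ1, Ideal.height_eq_height_add_of_liesOver_of_hasGoingDown P Q]
    exact le_self_add
  obtain ⟨i, hi⟩ : ∃ i, f i ∈ P := by
    have : ∏ i, f i ∈ P := hs'Q
    obtain ⟨i, -, hi⟩ := (Ideal.IsPrime.prod_mem_iff (p := P)).mp this
    exact ⟨i, hi⟩
  have hPi : P = Ideal.span {f i} := eq_span_of_mem_of_height_le_one (hf0 i) P hi hPle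
  have hcomap : Ideal.comap (algebraMap A R) (maximalIdeal R) = Ideal.span {f i} := by
    rw [← hPi]
    ext x
    show algebraMap A' R (algebraMap A A' x) ∈ maximalIdeal R ↔ algebraMap A A' x ∈ Q
    exact IsLocalization.AtPrime.to_map_mem_maximal_iff R Q _
  let σ := (Spec (CommRingCat.of A')).fromSpecStalk ξ
  let a : pullback U'.ι σ ⟶ (U : Scheme.{u}) := pullback.fst U'.ι σ ≫ g ∣_ U
  have hσ : σ ≫ g = Spec.map (CommRingCat.ofHom (algebraMap A R)) := by
    refine (congrArg (· ≫ g) (Spec.fromSpecStalk_eq' _ _)).trans ?_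
    exact (Spec.map_comp _ _).symm
  have hP : IsPullback a (pullback.snd U'.ι σ) U.ι (Spec.map (CommRingCat.ofHom (algebraMap A R))) := by
    exact hσ ▸ ((IsPullback.of_hasPullback U'.ι σ).flip.paste_vert (isPullback_morphismRestrict g U).flip).flip
  obtain ⟨W, ⟨e⟩⟩ := exists_local_cover f hf0 V htame i (hdvd i) R hinjR hcomap
    (algebraMap A' R (H9Et.Kummer.root f n i)) (by rw [← map_pow, H9Et.Kummer.root_pow]; rfl) hP
  exact ⟨W, ⟨e ≪≫ (H18Et.FEtLimit.restrictCompIso _ _ a rfl V).symm⟩⟩

end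

end Groth.Agent.H9Tame
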