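import Groth.Agent.H9Ram.TameBC
import Groth.Agent.H9Ram.UnramGen
import Mathlib.FieldTheory.IntermediateField.Adjoin.Basic

/-!
# Abhyankar's lemma at a discrete valuation ring containing a root
-/

set_option autoImplicit false

universe u

open IsLocalRing Groth.Agent.H9Ram

namespace Groth.Agent.H9Tame

/-- The ramification index at a place is at most the degree. -/
theorem ramificationIdx_le_finrank {R K L : Type u} [CommRing R] [IsDomain R] [IsDiscreteValuationRing R]
    [Field K] [Algebra R K] [IsFractionRing R K] [Field L] [Algebra K L] [FiniteDimensional K L]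
    [Algebra.IsSeparable K L] {V : ValuationSubring L}
    (h : EtRam.Dominates R ((algebraMap K L).comp (algebraMap R K)) V) :
    letI : Algebra R V := (RingHom.codRestrict ((algebraMap K L).comp (algebraMap R K)) V h.1).toAlgebra
    0 < Ideal.ramificationIdx' (maximalIdeal R) (maximalIdeal V) ∧
      Ideal.ramificationIdx' (maximalIdeal R) (maximalIdeal V) ≤ Module.finrank K L := by
  let : Algebra R V := (RingHom.codRestrict ((algebraMap K L).comp (algebraMap R K)) V h.1).toAlgebra
  have hl : IsLocalHom (algebraMap R V) := Dom.isLocalHom h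
  have : IsDiscreteValuationRing V := ValSub.isDVR h
  have hinj : Function.Injective (algebraMap R V) := ValSub.codRestrict_injective
    (g := (algebraMap K L).comp (algebraMap R K)) ((algebraMap K L).injective.comp (IsFractionRing.injective R K)) h
  obtain ⟨π, hπ⟩ := IsDiscreteValuationRing.exists_irreducible R
  obtain ⟨t, ht⟩ := IsDiscreteValuationRing.exists_irreducible V
  obtain ⟨u, hu, -⟩ := TameBC.exists_eq_unit_mul_pow hinj hπ ht
  set e := Ideal.ramificationIdx' (maximalIdeal R) (maximalIdeal V)
  refine ⟨Nat.pos_of_ne_zero fun h0 => ?_, ?_⟩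
  · refine map_nonunit (algebraMap R V) π ((mem_maximalIdeal π).mpr hπ.not_isUnit) ?_
    rw [hu, h0, pow_zero, mul_one]
    exact u.isUnit
  have step : ∀ a : Fin e → R, ∑ j, algebraMap R V (a j) * t ^ (j : ℕ) = 0 → ∀ j, π ∣ a j := by
    intro a ha
    suffices hh : ∀ n : ℕ, ∀ j : Fin e, (j : ℕ) = n → π ∣ a j from fun j => hh j j rfl
    intro n
    induction n using Nat.strong_induction_on with
    | _ n ih =>
      intro j hj
      by_contra hn
      have hu' : IsUnit (algebraMap R V (a j)) := by
        refine (of_not_not fun hnu => hn ?_ : IsUnit (a j)).map _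
        rw [← Ideal.mem_span_singleton, ← hπ.maximalIdeal_eq]
        exact hnu
      have hd : t ^ (n + 1) ∣ algebraMap R V (a j) * t ^ n := by
        rw [← hj] at ⊢
        have h1 := Finset.add_sum_erase Finset.univ (fun j => algebraMap R V (a j) * t ^ (j : ℕ)) (Finset.mem_univ j)
        rw [ha] at h1
        rw [eq_neg_of_add_eq_zero_left h1, dvd_neg]
        refine Finset.dvd_sum fun i hi => ?_
        rcases lt_or_gt_of_ne (Fin.val_ne_of_ne (Finset.ne_of_mem_erase hi)) with hlt | hgt
        · obtain ⟨c, hc⟩ := ih i (hj ▸ hlt) i rfl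
          rw [hc, map_mul, hu, mul_assoc, mul_assoc]
          exact dvd_mul_of_dvd_right (dvd_mul_of_dvd_left (pow_dvd_pow t j.2) _) _
        · exact dvd_mul_of_dvd_right (pow_dvd_pow t hgt) _
      rw [pow_succ', mul_dvd_mul_iff_right (pow_ne_zero _ ht.ne_zero)] at hd
      exact ht.not_isUnit (isUnit_of_dvd_unit hd hu')
  have hzero : ∀ a : Fin e → R, ∑ j, algebraMap R V (a j) * t ^ (j : ℕ) = 0 → ∀ j, a j = 0 := by
    intro a ha
    have hk : ∀ k : ℕ, ∀ a : Fin e → R, ∑ j, algebraMap R V (a j) * t ^ (j : ℕ) = 0 → ∀ j, π ^ k ∣ a j := by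
      intro k
      induction k with
      | zero => exact fun a _ j => by simp
      | succ k ih =>
        intro a ha j
        choose b hb using step a ha
        have hb0 : ∑ j, algebraMap R V (b j) * t ^ (j : ℕ) = 0 := by
          refine (mul_eq_zero.mp ?_).resolve_left ((map_ne_zero_iff _ hinj).mpr hπ.ne_zero)
          rw [Finset.mul_sum, ← ha]
          exact Finset.sum_congr rfl fun i _ => by rw [hb i, map_mul, mul_assoc]
        rw [hb j, pow_succ']
        exact mul_dvd_mul_left π (ih b hb0 j)
    intro j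
    by_contra h0
    obtain ⟨n, v, hv⟩ := IsDiscreteValuationRing.eq_unit_mul_pow_irreducible h0 hπ
    have h2 := hk (n + 1) a ha j
    rw [hv, pow_succ', mul_comm (v : R), mul_comm π, mul_dvd_mul_iff_left (pow_ne_zero _ hπ.ne_zero)] at h2
    exact hπ.not_isUnit (isUnit_of_dvd_unit h2 v.isUnit)
  let : Algebra R L := ((algebraMap K L).comp (algebraMap R K)).toAlgebra
  have : IsScalarTower R K L := IsScalarTower.of_algebraMap_eq fun _ => rfl
  have hli : LinearIndependent R (fun j : Fin e => ((t : V) : L) ^ (j : ℕ)) := by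
    rw [Fintype.linearIndependent_iff]
    intro a ha
    refine hzero a (Subtype.ext ?_)
    rw [ZeroMemClass.coe_zero, ← ha, AddSubmonoidClass.coe_finset_sum]
    exact Finset.sum_congr rfl fun i _ => by rw [Algebra.smul_def]; rfl
  rw [LinearIndependent.iff_fractionRing R K] at hli
  simpa using hli.fintype_card_le_finrank

/-- Abhyankar's lemma: over a discrete valuation ring containing a root of the uniformizer of order a
multiple of the tame ramification index, the compositum is unramified. -/
theorem unrAt_of_root {A₀ K L R' K'' F : Type u} [CommRing A₀] [IsDomain A₀] [IsDiscreteValuationRing A₀]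
    [Field K] [Algebra A₀ K] [IsFractionRing A₀ K] [Field L] [Algebra K L] [FiniteDimensional K L]
    [Algebra.IsSeparable K L] [CommRing R'] [IsDomain R'] [IsDiscreteValuationRing R'] [Field K'']
    [Algebra R' K''] [IsFractionRing R' K''] [Algebra A₀ R'] [IsLocalHom (algebraMap A₀ R')]
    [Algebra K K''] [Field F] (iL : L →+* F) (iK : K'' →+* F)
    (hAK : (algebraMap K K'').comp (algebraMap A₀ K) = (algebraMap R' K'').comp (algebraMap A₀ R'))
    (hc : iL.comp (algebraMap K L) = iK.comp (algebraMap K K''))
    (hgen : ∀ x : F, x ∈ Subfield.closure (Set.range iL ∪ Set.range iK))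
    (htame : EtRam.IsTamelyRamified A₀ ((algebraMap K L).comp (algebraMap A₀ K)))
    {π : A₀} (hπ : Irreducible π) {m : ℕ}
    (hm : ∀ (V : ValuationSubring L) (hV : EtRam.Dominates A₀ ((algebraMap K L).comp (algebraMap A₀ K)) V),
      letI : Algebra A₀ V := (RingHom.codRestrict ((algebraMap K L).comp (algebraMap A₀ K)) V hV.1).toAlgebra
      Ideal.ramificationIdx' (maximalIdeal A₀) (maximalIdeal V) ∣ m)
    (t : R') (ht : t ^ m = algebraMap A₀ R' π)
    (W : ValuationSubring F) (hW : EtRam.Dominates R' (iK.comp (algebraMap R' K'')) W) :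
    TowerExt.UnrAt _ W hW := by
  let V := W.comap iL
  have hWA : EtRam.Dominates A₀ (iL.comp ((algebraMap K L).comp (algebraMap A₀ K))) W := by
    rw [← RingHom.comp_assoc, hc, RingHom.comp_assoc, hAK, ← RingHom.comp_assoc]
    exact Dom.trans (algebraMap A₀ R') hW
  have hV : EtRam.Dominates A₀ ((algebraMap K L).comp (algebraMap A₀ K)) V := Dom.comap iL hWA
  let : Algebra A₀ V := (RingHom.codRestrict ((algebraMap K L).comp (algebraMap A₀ K)) V hV.1).toAlgebra
  have hlV : IsLocalHom (algebraMap A₀ V) := Dom.isLocalHom hV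
  have hT : TowerExt.TameAt _ V hV := htame V hV
  obtain ⟨hepos, -⟩ := ramificationIdx_le_finrank hV
  set e := Ideal.ramificationIdx' (maximalIdeal A₀) (maximalIdeal V) with he
  have heu : IsUnit (e : A₀) := by
    rw [← residue_ne_zero_iff_isUnit, map_natCast]
    intro h0
    obtain ⟨p, hp⟩ := CharP.exists (ResidueField A₀)
    rcases CharP.char_is_prime_or_zero (ResidueField A₀) p with hpp | rfl
    · exact (@hT hlV).2 p hpp hp ((CharP.cast_eq_zero_iff _ p e).mp h0)
    · exact hepos.ne' (Nat.zero_dvd.mp ((CharP.cast_eq_zero_iff _ 0 e).mp h0))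
  obtain ⟨q, hq⟩ := hm V hV
  rw [← he] at hq
  -- the root
  let z : K'' := algebraMap R' K'' (t ^ q)
  have hz : z ^ e = algebraMap K K'' (algebraMap A₀ K π) := by
    rw [show algebraMap K K'' (algebraMap A₀ K π) = algebraMap R' K'' (algebraMap A₀ R' π) from
      RingHom.congr_fun hAK π, ← ht, hq]
    simp only [z, ← map_pow, ← pow_mul, mul_comm q e]
  let y : F := iK z
  let : Algebra L F := iL.toAlgebra
  let : Algebra K F := (iL.comp (algebraMap K L)).toAlgebra
  have : IsScalarTower K L F := IsScalarTower.of_algebraMap_eq fun _ => rfl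
  have hy : y ^ e = algebraMap K F (algebraMap A₀ K π) := by
    show iK z ^ e = iL (algebraMap K L _)
    rw [← map_pow, hz]
    exact (RingHom.congr_fun hc _).symm
  have hπK : algebraMap A₀ K π ≠ 0 :=
    IsFractionRing.to_map_ne_zero_of_mem_nonZeroDivisors (mem_nonZeroDivisors_of_ne_zero hπ.ne_zero)
  have hsepy : IsSeparable L y := by
    have heL : (e : L) ≠ 0 := by
      have := ((heu.map (algebraMap A₀ K)).map (algebraMap K L)).ne_zero
      simpa using this
    refine Polynomial.Separable.of_dvd (Polynomial.separable_X_pow_sub_C (algebraMap K L (algebraMap A₀ K π)) heL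
      ((map_ne_zero _).mpr hπK)) (minpoly.dvd L y ?_)
    rw [map_sub, map_pow, Polynomial.aeval_X, Polynomial.aeval_C, sub_eq_zero, hy]
    rfl
  let L2 := IntermediateField.adjoin L ({y} : Set F)
  have : FiniteDimensional L L2 := IntermediateField.adjoin.finiteDimensional hsepy.isIntegral
  have : Algebra.IsSeparable L L2 := (IntermediateField.isSeparable_adjoin_simple_iff_isSeparable L F).mpr hsepy
  have : IsScalarTower K L L2 := IsScalarTower.of_algebraMap_eq fun _ => Subtype.ext rfl
  have : FiniteDimensional K L2 := Module.Finite.trans L L2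
  have : Algebra.IsSeparable K L2 := Algebra.IsSeparable.trans K L L2
  let y2 : L2 := ⟨y, IntermediateField.subset_adjoin _ _ rfl⟩
  have hgen2 : IntermediateField.adjoin L ({y2} : Set L2) = ⊤ := by
    refine IntermediateField.lift_injective L2 ?_
    rw [IntermediateField.lift_adjoin_simple, IntermediateField.lift_top]
  let i2 : L2 →+* F := algebraMap L2 F
  let V2 := W.comap i2
  have hV2 : EtRam.Dominates A₀ ((algebraMap K L2).comp (algebraMap A₀ K)) V2 := Dom.comap i2 hWA
  have h1 : TowerExt.UnrAt _ V2 (Dom.self (algebraMap (IntermediateField.adjoin K ({y2} : Set L2)) L2) V2) :=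
    TameBC.abhyankar hπ hepos.ne' heu y2 (Subtype.ext hy) hgen2 V2 hV2 hV hT rfl
  let K1 := IntermediateField.adjoin K ({y2} : Set L2)
  let i1 : K1 →+* F := i2.comp (algebraMap K1 L2)
  have hmem : ∀ x : K1, i1 x ∈ iK.fieldRange := by
    rintro ⟨x, hx⟩
    show i2 x ∈ iK.fieldRange
    induction hx using IntermediateField.adjoin_induction with
    | mem x hx => exact ⟨z, by rw [Set.mem_singleton_iff.mp hx]; rfl⟩
    | algebraMap c => exact ⟨algebraMap K K'' c, (RingHom.congr_fun hc c).symm⟩
    | add x y _ _ hx hy => rw [map_add]; exact add_mem hx hy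
    | inv x _ hx => rw [map_inv₀]; exact inv_mem hx
    | mul x y _ _ hx hy => rw [map_mul]; exact mul_mem hx hy
  choose j₀ hj₀ using hmem
  let j : K1 →+* K'' :=
    { toFun := j₀
      map_one' := iK.injective (by rw [hj₀, map_one, map_one])
      map_mul' := fun a b => iK.injective (by rw [map_mul iK, hj₀, hj₀, hj₀, map_mul])
      map_zero' := iK.injective (by rw [hj₀, map_zero, map_zero])
      map_add' := fun a b => iK.injective (by rw [map_add iK, hj₀, hj₀, hj₀, map_add]) }
  let A1 := V2.comap (algebraMap K1 L2)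
  have hA1 : EtRam.Dominates A₀ ((algebraMap K K1).comp (algebraMap A₀ K)) A1 := TowerExt.restrict V2 hV2
  have : IsDiscreteValuationRing A1 := ValSub.isDVR hA1
  let : Algebra K1 K'' := j.toAlgebra
  have hWK : EtRam.Dominates R' (algebraMap R' K'') (W.comap iK) := Dom.comap iK hW
  have hA1R : ∀ x : A1, ∃ r : R', algebraMap R' K'' r = j (x : K1) := fun x =>
    (Dom.mem_iff hWK _).mp (by
      show iK (j₀ (x : K1)) ∈ W
      rw [hj₀]
      exact x.2)
  choose r hr using hA1R
  have hRinj := IsFractionRing.injective R' K''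
  let rh : A1 →+* R' :=
    { toFun := r
      map_one' := hRinj (by rw [hr, map_one (algebraMap R' K'')]; exact map_one j)
      map_mul' := fun a b => hRinj (by rw [map_mul, hr, hr, hr]; exact map_mul j _ _)
      map_zero' := hRinj (by rw [hr, map_zero (algebraMap R' K'')]; exact map_zero j)
      map_add' := fun a b => hRinj (by rw [map_add, hr, hr, hr]; exact map_add j _ _) }
  let : Algebra A1 R' := rh.toAlgebra
  have : IsLocalHom (algebraMap A1 R') := ⟨fun a ha => by
    obtain ⟨v, hv⟩ := ha
    by_contra hna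
    have hlt := (Dom.self i1 W).2 a hna
    have hrv : i1 (a : K1) = iK (algebraMap R' K'' v) := by
      rw [hv]; exact ((congrArg iK (hr a)).trans (hj₀ _)).symm
    have h3 : IsUnit (RingHom.codRestrict (iK.comp (algebraMap R' K'')) W hW.1 (v : R')) := v.isUnit.map _
    refine hlt.ne ?_
    show W.valuation (i1 (a : K1)) = 1
    rw [hrv]
    exact (W.valuation_eq_one_iff _).mp h3⟩
  let : Algebra A1 K'' := (j.comp (algebraMap A1 K1)).toAlgebra
  have : IsScalarTower A1 K1 K'' := IsScalarTower.of_algebraMap_eq fun _ => rfl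
  have : IsScalarTower A1 R' K'' := IsScalarTower.of_algebraMap_eq fun a => (hr a).symm
  have : FiniteDimensional K K1 := FiniteDimensional.left K K1 L2
  have : FiniteDimensional K1 L2 := FiniteDimensional.right K K1 L2
  have : Algebra.IsSeparable K1 L2 := Algebra.isSeparable_tower_top_of_isSeparable K K1 L2
  unfold TowerExt.UnrAt
  intro hlW
  refine @UnramGen.unrAt_baseChange R' K'' F _ _ _ _ _ _ _ iK W hW A1 K1 L2 _ _ _ _ _ _ _ _ _ _ _ _ _ _ _ _ i2 ?_ ?_ (Dom.self (algebraMap K1 L2) V2) (@h1) hlW
  · exact RingHom.ext fun x => (hj₀ x).symm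
  · intro x
    refine Subfield.closure_mono (Set.union_subset_union_left _ ?_) (hgen x)
    rintro _ ⟨l, rfl⟩
    exact ⟨algebraMap L L2 l, rfl⟩

end Groth.Agent.H9Tame
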