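import Groth.Prelude.Def_SGA1
import Groth.Agent.H9Tame.Local
import Groth.Agent.H9Tame.Closure
import Groth.Agent.H4Depth.Regular
import Mathlib.RingTheory.RingHom.Unramified

/-!
# Tame covers become etale over rings containing roots
-/

set_option autoImplicit false
set_option linter.style.haveILetI false

universe u

open IsLocalRing Groth.Agent.H9Ram
open scoped TensorProduct

namespace Groth.Agent.H9Tame

variable {A : Type u} [CommRing A]

/-- All ramification indices of `C` along the prime `P` divide `m`. -/
def IndexDvd (P : Ideal A) [P.IsPrime] (C : Type u) [CommRing C] [Algebra A C] (m : ℕ) : Prop :=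
  ∀ (q : Ideal C) [q.IsPrime] (hq : Ideal.comap (algebraMap A C) q = ⊥) (V : ValuationSubring q.ResidueField)
    (hV : EtRam.Dominates (Localization.AtPrime P) (SGA1.genericResidueMap (algebraMap A C) P q hq) V),
    letI : Algebra (Localization.AtPrime P) V :=
      (RingHom.codRestrict (SGA1.genericResidueMap (algebraMap A C) P q hq) V hV.1).toAlgebra
    Ideal.ramificationIdx' (maximalIdeal (Localization.AtPrime P)) (maximalIdeal V) ∣ m

/-- The prime generated by a parameter gives a discrete valuation ring. -/
theorem isDVR_localization [IsDomain A] [IsNoetherianRing A] {x : A} (hx : x ≠ 0) [(Ideal.span {x}).IsPrime] :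
    IsDiscreteValuationRing (Localization.AtPrime (Ideal.span {x})) ∧
      Irreducible (algebraMap A (Localization.AtPrime (Ideal.span {x})) x) := by
  let P := Ideal.span {x}
  let R := Localization.AtPrime P
  have hmax : maximalIdeal R = Ideal.span {algebraMap A R x} := by
    rw [← Localization.AtPrime.map_eq_maximalIdeal, Ideal.map_span, Set.image_singleton]
  have hnf : ¬ IsField R := fun h => by
    rw [IsLocalRing.isField_iff_maximalIdeal_eq, hmax, Ideal.span_singleton_eq_bot] at h
    exact hx (IsLocalization.injective R P.primeCompl_le_nonZeroDivisors (h.trans (map_zero _).symm))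
  haveI : IsNoetherianRing R := IsLocalization.isNoetherianRing P.primeCompl R inferInstance
  haveI : IsDiscreteValuationRing R := ((IsDiscreteValuationRing.TFAE R hnf).out 4 0).mp
    (⟨⟨algebraMap A R x, hmax⟩⟩ : (maximalIdeal R).IsPrincipal)
  exact ⟨inferInstance, (IsDiscreteValuationRing.irreducible_iff_uniformizer _).mpr hmax⟩

/-- The fraction field of `A` is that of its localization. -/
theorem exists_fraction_algebra [IsDomain A] (P : Ideal A) [P.IsPrime] :
    ∃ a : Algebra (Localization.AtPrime P) (FractionRing A),
      @IsScalarTower A (Localization.AtPrime P) (FractionRing A) _ a.toSMul _ ∧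
        @IsFractionRing (Localization.AtPrime P) _ (FractionRing A) _ a := by
  let a : Algebra (Localization.AtPrime P) (FractionRing A) :=
    (IsLocalization.lift (M := P.primeCompl) (S := Localization.AtPrime P) (g := algebraMap A (FractionRing A))
      fun y => IsUnit.mk0 _ (IsFractionRing.to_map_ne_zero_of_mem_nonZeroDivisors
        (P.primeCompl_le_nonZeroDivisors y.2))).toAlgebra
  have h : IsScalarTower A (Localization.AtPrime P) (FractionRing A) :=
    IsScalarTower.of_algebraMap_eq fun x => (IsLocalization.lift_eq _ x).symm
  exact ⟨a, h, IsFractionRing.isFractionRing_of_isDomain_of_isLocalization P.primeCompl _ _⟩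

variable (C : Type u) [CommRing C] [Algebra A C] {s : A} [Algebra (Localization.Away s) C]
  [IsScalarTower A (Localization.Away s) C]

/-- The base change of the cover to a field containing `A[1/s]`. -/
theorem finite_unramified_baseChange [Module.Finite (Localization.Away s) C]
    [Algebra.Etale (Localization.Away s) C] (R K : Type u) [CommRing R] [Algebra A R] [Field K] [Algebra R K]
    [Algebra K (R ⊗[A] C)] [IsScalarTower R K (R ⊗[A] C)] (hs : algebraMap R K (algebraMap A R s) ≠ 0) :
    Module.Finite K (R ⊗[A] C) ∧ Algebra.FormallyUnramified K (R ⊗[A] C) := by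
  haveI : Algebra.FormallyEtale A (Localization.Away s) := .of_isLocalization (Submonoid.powers s)
  haveI : Algebra.FormallyEtale A C := Algebra.FormallyEtale.comp A (Localization.Away s) C
  haveI : Algebra.FormallyUnramified R (R ⊗[A] C) := inferInstance
  haveI : Algebra.FormallyUnramified K (R ⊗[A] C) := Algebra.FormallyUnramified.of_restrictScalars R K _
  refine ⟨?_, inferInstance⟩
  obtain ⟨G, hG⟩ := Module.Finite.fg_top (R := Localization.Away s) (M := C)
  classical
  refine ⟨⟨G.image (fun c => (1 : R) ⊗ₜ[A] c), eq_top_iff.mpr ?_⟩⟩
  intro x hx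
  clear hx
  rw [Finset.coe_image]
  induction x using TensorProduct.induction_on with
  | zero => exact zero_mem _
  | add x y hx hy => exact add_mem hx hy
  | tmul b c =>
    have hc : c ∈ Submodule.span (Localization.Away s) (G : Set C) := hG ▸ Submodule.mem_top
    have hb : b ⊗ₜ[A] c = algebraMap R K b • ((1 : R) ⊗ₜ[A] c) := by
      rw [algebraMap_smul, TensorProduct.smul_tmul', smul_eq_mul, mul_one]
    rw [hb]
    refine Submodule.smul_mem _ _ ?_
    clear hb
    induction hc using Submodule.span_induction with
    | mem c hc => exact Submodule.subset_span ⟨c, hc, rfl⟩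
    | zero => rw [TensorProduct.tmul_zero]; exact zero_mem _
    | add c d _ _ hc hd => rw [TensorProduct.tmul_add]; exact add_mem hc hd
    | smul z c _ hc =>
      obtain ⟨n, a, ha⟩ := IsLocalization.Away.surj s z
      have key : algebraMap R K (algebraMap A R (s ^ n)) • ((1 : R) ⊗ₜ[A] (z • c)) =
          algebraMap R K (algebraMap A R a) • ((1 : R) ⊗ₜ[A] c) := by
        rw [algebraMap_smul, algebraMap_smul, algebraMap_smul, algebraMap_smul, ← TensorProduct.tmul_smul,
          ← TensorProduct.tmul_smul, ← smul_assoc]
        congr 1
        rw [← algebraMap_smul (Localization.Away s) a c]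
        congr 1
        rw [Algebra.smul_def, map_pow, mul_comm]
        exact ha
      have hne : algebraMap R K (algebraMap A R (s ^ n)) ≠ 0 := by
        rw [map_pow, map_pow]; exact pow_ne_zero _ hs
      rw [← inv_smul_smul₀ hne ((1 : R) ⊗ₜ[A] (z • c)), key]
      exact Submodule.smul_mem _ _ (Submodule.smul_mem _ _ hc)

end Groth.Agent.H9Tame
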