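import Groth.Agent.H9Tame.Strict
import Groth.Agent.H05EGA4.Regular2
import Mathlib.RingTheory.Ideal.GoingDown
import Mathlib.RingTheory.Ideal.KrullsHeightTheorem
import Mathlib.FieldTheory.IsSepClosed

/-!
# Parameters in Kummer algebras
-/

set_option autoImplicit false
set_option linter.style.haveILetI false

universe u

open IsLocalRing

namespace Groth.Agent.H9Tame

variable {A : Type u} [CommRing A] [IsRegularLocalRing A] {r : ℕ} (f : Fin r → A)
  (hm : ∀ i, f i ∈ maximalIdeal A)
  (hf : LinearIndependent (ResidueField A) (fun i => (maximalIdeal A).toCotangent ⟨f i, hm i⟩))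

include hm hf in
/-- A system of parameters completing the given one. -/
theorem exists_generators : ∃ (k : ℕ) (g : Fin k → A),
    maximalIdeal A = Ideal.span (Set.range f ∪ Set.range g) ∧
      ((r + k : ℕ) : WithBot ℕ∞) ≤ ringKrullDim A := by
  classical
  let κ := ResidueField A
  let vv : Fin r → CotangentSpace A := fun i => (maximalIdeal A).toCotangent ⟨f i, hm i⟩
  obtain ⟨C, hC⟩ := Submodule.exists_isCompl (Submodule.span κ (Set.range vv))
  let b := Module.finBasis κ C
  choose g hg using fun j => Ideal.toCotangent_surjective (maximalIdeal A) ((b j : C) : CotangentSpace A)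
  refine ⟨Module.finrank κ C, fun j => (g j : A), ?_, ?_⟩
  · have htop : Submodule.span κ ((maximalIdeal A).toCotangent ''
        (Set.range (fun i => (⟨f i, hm i⟩ : maximalIdeal A)) ∪ Set.range g)) = ⊤ := by
      rw [Set.image_union, ← Set.range_comp, ← Set.range_comp, Submodule.span_union]
      refine top_le_iff.1 (hC.sup_eq_top.ge.trans (sup_le_sup le_rfl ?_))
      rw [show ((maximalIdeal A).toCotangent ∘ g) = fun j => ((b j : C) : CotangentSpace A) from funext hg]
      exact le_of_eq (by
        rw [show (fun j => ((b j : C) : CotangentSpace A)) = C.subtype ∘ b from rfl, Set.range_comp,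
          ← Submodule.map_span, b.span_eq, Submodule.map_subtype_top])
    have h := congrArg (Submodule.map (maximalIdeal A).subtype) (CotangentSpace.span_image_eq_top_iff.1 htop)
    rw [Submodule.map_subtype_top, Submodule.map_span, Set.image_union, ← Set.range_comp, ← Set.range_comp] at h
    exact h.symm
  · rw [← (IsRegularLocalRing.iff_finrank_cotangentSpace A).1 ‹_›, Nat.cast_le,
      ← Submodule.finrank_add_eq_of_isCompl hC, finrank_span_eq_card hf, Fintype.card_fin]

variable {n : Fin r → ℕ} (hn : ∀ i, 1 ≤ n i)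

include hm hf hn in
/-- The roots are part of a regular system of parameters of the Kummer algebra. -/
theorem isPrime_root (i : Fin r) : (Ideal.span {H9Et.Kummer.root f n i}).IsPrime := by
  haveI := H4Depth.isDomain_of_isRegularLocalRing A
  haveI := H9Et.Kummer.isRegularLocalRing f hn hm hf
  haveI := H9Et.Kummer.finite f hn
  obtain ⟨k, g, hspan, hk⟩ := exists_generators f hm hf
  let A' := SGA1.kummerAlg A f n
  let G : Fin r ⊕ Fin k → A' := Sum.elim (H9Et.Kummer.root f n) fun j => algebraMap A A' (g j)
  have hG : Ideal.span (Set.range G) = maximalIdeal A' := by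
    rw [(H9Et.Kummer.isLocalRing f hn hm).2 (maximalIdeal A') inferInstance, H9Et.Kummer.maxIdeal,
      Set.Sum.elim_range, Ideal.span_union]
    refine le_antisymm (sup_le_sup le_rfl ?_) (sup_le le_sup_left ?_)
    · rw [Ideal.span_le]
      rintro _ ⟨j, rfl⟩
      exact Ideal.mem_map_of_mem _ (hspan.ge (Ideal.subset_span (Or.inr ⟨j, rfl⟩)))
    · refine le_of_eq_of_le (congrArg (Ideal.map _) hspan) ?_
      rw [Ideal.map_span, Ideal.span_le, Set.image_union, Set.union_subset_iff]
      refine ⟨?_, ?_⟩
      · rintro _ ⟨_, ⟨j, rfl⟩, rfl⟩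
        rw [← H9Et.Kummer.root_pow (n := n)]
        exact Submodule.mem_sup_left (Ideal.pow_mem_of_mem _ (Ideal.subset_span (Set.mem_range_self j)) _ (hn j))
      · rintro _ ⟨_, ⟨j, rfl⟩, rfl⟩
        exact Submodule.mem_sup_right (Ideal.subset_span ⟨j, rfl⟩)
  have hmem : ∀ j, G j ∈ maximalIdeal A' := fun j => hG.le (Ideal.subset_span (Set.mem_range_self j))
  have hli := linearIndependent_of_span_eq G hmem hG (by
    rw [Fintype.card_sum, Fintype.card_fin, Fintype.card_fin,
      (H05EGA4.dim_int A A').2 (H9Et.Kummer.injective_algebraMap f hn)]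
    exact hk)
  exact isPrime_span_of_linearIndependent G hmem hli (Sum.inl i)

omit n hn in
include hf in
/-- Parameters stay parameters in a regular unramified flat extension. -/
theorem linearIndependent_map {B : Type u} [CommRing B] [IsRegularLocalRing B] [Algebra A B] [Module.Flat A B]
    (hmax : (maximalIdeal A).map (algebraMap A B) = maximalIdeal B)
    (hmB : ∀ i, algebraMap A B (f i) ∈ maximalIdeal B) :
    LinearIndependent (ResidueField B) (fun i => (maximalIdeal B).toCotangent ⟨algebraMap A B (f i), hmB i⟩) := by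
  obtain ⟨k, g, hspan, hk⟩ := exists_generators f hm hf
  let G : Fin r ⊕ Fin k → B := Sum.elim (fun i => algebraMap A B (f i)) fun j => algebraMap A B (g j)
  have hG : Ideal.span (Set.range G) = maximalIdeal B := by
    rw [← hmax, hspan, Ideal.map_span, Set.Sum.elim_range, Set.image_union, ← Set.range_comp, ← Set.range_comp]
    rfl
  haveI : (maximalIdeal B).LiesOver (maximalIdeal A) := ⟨by
    haveI : (Ideal.comap (algebraMap A B) (maximalIdeal B)).IsPrime := Ideal.IsPrime.comap _
    exact ((maximalIdeal.isMaximal A).eq_of_le (Ideal.IsPrime.comap (algebraMap A B)).ne_top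
      (Ideal.map_le_iff_le_comap.mp hmax.le))⟩
  have hdim : ringKrullDim B = ringKrullDim A := by
    rw [← maximalIdeal_height_eq_ringKrullDim, ← maximalIdeal_height_eq_ringKrullDim,
      Ideal.height_eq_height_add_of_liesOver_of_hasGoingDown (maximalIdeal A) (maximalIdeal B)]
    have h0 : ((maximalIdeal B).map (Ideal.Quotient.mk ((maximalIdeal A).map (algebraMap A B)))) = ⊥ := by
      rw [hmax, Ideal.map_quotient_self]
    rw [h0]
    haveI : ((maximalIdeal A).map (algebraMap A B)).IsPrime := hmax ▸ inferInstance
    rw [Ideal.height_bot, add_zero]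
  have hmem : ∀ j, G j ∈ maximalIdeal B := fun j => hG.le (Ideal.subset_span (Set.mem_range_self j))
  exact (linearIndependent_of_span_eq G hmem hG (by
    rw [Fintype.card_sum, Fintype.card_fin, Fintype.card_fin, hdim]; exact hk)).comp Sum.inl Sum.inl_injective

include hm hn in
/-- A Kummer algebra over a strictly henselian ring is strictly henselian. -/
theorem strictlyHenselian_kummer [HenselianLocalRing A] [IsSepClosed (ResidueField A)] :
    HenselianLocalRing (SGA1.kummerAlg A f n) ∧
      ∀ [IsLocalRing (SGA1.kummerAlg A f n)], IsSepClosed (ResidueField (SGA1.kummerAlg A f n)) := by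
  haveI := H4Depth.isDomain_of_isRegularLocalRing A
  haveI := H9Et.Kummer.finite f hn
  obtain ⟨hloc, hall⟩ := H9Et.Kummer.isLocalRing f hn hm
  haveI := hloc
  haveI : IsLocalHom (algebraMap A (SGA1.kummerAlg A f n)) :=
    haveI : FaithfulSMul A (SGA1.kummerAlg A f n) :=
      (faithfulSMul_iff_algebraMap_injective _ _).2 (H9Et.Kummer.injective_algebraMap f hn)
    Algebra.IsIntegral.isLocalHom A _
  obtain ⟨hH, -⟩ := H9Hens.henselian_of_isIntegral (R := A) (T := SGA1.kummerAlg A f n)
  refine ⟨hH, fun {_} => ?_⟩
  let φ := algebraMap (ResidueField A) (ResidueField (SGA1.kummerAlg A f n))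
  have hs : Function.Surjective φ := by
    intro y
    obtain ⟨x, rfl⟩ := residue_surjective y
    have hx : x ∈ Algebra.adjoin A (Set.range (H9Et.Kummer.root f n)) := by
      rw [H9Et.Kummer.adjoin_root_eq_top]; trivial
    induction hx using Algebra.adjoin_induction with
    | mem z hz =>
      obtain ⟨j, rfl⟩ := hz
      refine ⟨0, (map_zero φ).trans (Eq.symm ?_)⟩
      rw [residue_eq_zero_iff, hall (maximalIdeal _) inferInstance]
      exact Submodule.mem_sup_left (Ideal.subset_span (Set.mem_range_self j))
    | algebraMap c => exact ⟨residue A c, rfl⟩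
    | add y z _ _ hy hz =>
      obtain ⟨c, hc⟩ := hy
      obtain ⟨d, hd⟩ := hz
      exact ⟨c + d, by rw [map_add, map_add, hc, hd]⟩
    | mul y z _ _ hy hz =>
      obtain ⟨c, hc⟩ := hy
      obtain ⟨d, hd⟩ := hz
      exact ⟨c * d, by rw [map_mul, map_mul, hc, hd]⟩
  let e := RingEquiv.ofBijective φ ⟨φ.injective, hs⟩
  refine IsSepClosed.of_exists_root _ fun p _ hirr hsep => ?_
  obtain ⟨x, hx⟩ := IsSepClosed.exists_eval₂_eq_zero e.symm.toRingHom p hirr.degree_pos.ne' hsep
  refine ⟨e x, ?_⟩
  have h2 := congrArg e hx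
  rw [map_zero] at h2
  rw [← h2, show e (p.eval₂ e.symm.toRingHom x) = (e : _ →+* _) (p.eval₂ e.symm.toRingHom x) from rfl,
    Polynomial.hom_eval₂, show (e : _ →+* _).comp e.symm.toRingHom = RingHom.id _ from
      RingHom.ext fun z => e.apply_symm_apply z, Polynomial.eval₂_id]
  rfl

end Groth.Agent.H9Tame
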