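import Groth.Agent.H9Tame.Claim
import Mathlib.Data.Nat.Factorization.Basic
import Mathlib.Data.Nat.Factorial.Basic

/-!
# Exponents for Abhyankar's lemma
-/

set_option autoImplicit false
set_option linter.style.haveILetI false

universe u

open IsLocalRing Groth.Agent.H9Ram AlgebraicGeometry CategoryTheory CategoryTheory.Limits
open scoped TensorProduct Nat

noncomputable section

namespace Groth.Agent.H9Tame

variable {A : Type u} [CommRing A] [IsRegularLocalRing A] [IsDomain A] {r : ℕ} (f : Fin r → A)
  [∀ i, (Ideal.span {f i}).IsPrime] (hm : ∀ i, f i ∈ maximalIdeal A)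
  (hf : LinearIndependent (ResidueField A) (fun i => (maximalIdeal A).toCotangent ⟨f i, hm i⟩))

include hm hf in
/-- The ramification indices along the `f i` are at most the degree, and prime to the residue characteristic. -/
theorem index_facts (C : Type u) [CommRing C] [Algebra A C] [Algebra (Localization.Away (∏ i, f i)) C]
    [IsScalarTower A (Localization.Away (∏ i, f i)) C]
    [Module.Finite (Localization.Away (∏ i, f i)) C] [Algebra.Etale (Localization.Away (∏ i, f i)) C]
    (htame : SGA1.IsTameAlong f (algebraMap A C)) (i : Fin r) {N : ℕ}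
    (hN : ∀ e : ℕ, 0 < e → e ≤ Module.finrank (FractionRing A) (FractionRing A ⊗[A] C) →
      (∀ p : ℕ, p.Prime → (p : A) ∈ Ideal.span {f i} → ¬ p ∣ e) → e ∣ N) :
    IndexDvd (Ideal.span {f i}) C N := by
  have hf0 := ne_zero_of_linearIndependent f hm hf
  obtain ⟨aP, htP, hfP⟩ := exists_fraction_algebra (A := A) (Ideal.span {f i})
  obtain ⟨hdR, -⟩ := isDVR_localization (hf0 i)
  haveI := hdR
  intro q _ hq
  obtain ⟨aL, haL, hfd, hsep, hfr⟩ := exists_residueField_algebra f C hf0 q hq
  letI := aP; letI := aL
  haveI := htP; haveI := hfP; haveI := hfd; haveI := hsep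
  have hgr : (algebraMap (FractionRing A) q.ResidueField).comp
      (algebraMap (Localization.AtPrime (Ideal.span {f i})) (FractionRing A)) =
      SGA1.genericResidueMap (algebraMap A C) (Ideal.span {f i}) q hq := by
    refine IsLocalization.ringHom_ext (Ideal.span {f i}).primeCompl (RingHom.ext fun x => ?_)
    show algebraMap (FractionRing A) q.ResidueField (algebraMap _ (FractionRing A) (algebraMap A _ x)) =
      SGA1.genericResidueMap (algebraMap A C) (Ideal.span {f i}) q hq (algebraMap A _ x)
    rw [← IsScalarTower.algebraMap_apply A (Localization.AtPrime (Ideal.span {f i})) (FractionRing A),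
      SGA1.genericResidueMap, IsLocalization.lift_eq]
    exact (RingHom.congr_fun haL x).trans (IsScalarTower.algebraMap_apply A C _ x)
  have ht := htame i q hq
  suffices H : ∀ g' : Localization.AtPrime (Ideal.span {f i}) →+* q.ResidueField,
      g' = (algebraMap (FractionRing A) q.ResidueField).comp
        (algebraMap (Localization.AtPrime (Ideal.span {f i})) (FractionRing A)) →
      EtRam.IsTamelyRamified (Localization.AtPrime (Ideal.span {f i})) g' →
      ∀ (V : ValuationSubring q.ResidueField) (hV : EtRam.Dominates (Localization.AtPrime (Ideal.span {f i})) g' V),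
        letI : Algebra (Localization.AtPrime (Ideal.span {f i})) V := (RingHom.codRestrict g' V hV.1).toAlgebra
        Ideal.ramificationIdx' (maximalIdeal (Localization.AtPrime (Ideal.span {f i}))) (maximalIdeal V) ∣ N from
    fun V hV => H _ hgr.symm ht V hV
  rintro g' rfl ht' V hV
  let R := Localization.AtPrime (Ideal.span {f i})
  let : Algebra R V := (RingHom.codRestrict _ V hV.1).toAlgebra
  haveI hl : IsLocalHom (algebraMap R V) := Dom.isLocalHom hV
  obtain ⟨h0, hle⟩ := ramificationIdx_le_finrank hV
  refine hN _ h0 (hle.trans hfr) fun p hp hpi => ?_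
  have h1 := ht' V hV
  haveI : CharP (ResidueField R) p := (CharP.charP_iff_prime_eq_zero hp).mpr (by
    rw [← map_natCast (residue R), residue_eq_zero_iff, ← map_natCast (algebraMap A R)]
    exact (IsLocalization.AtPrime.to_map_mem_maximal_iff R _ _).mpr hpi)
  exact h1.2 p hp inferInstance

include hm hf in
/-- An exponent invertible in the residue field, divisible by all ramification indices. -/
theorem exists_exponent (V : FEt.Cat ((SGA1.specBasicOpen A (∏ i, f i)) : Scheme.{u}))
    (htame : SGA1.IsTameAlong f (coverHom V)) :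
    ∃ m : ℕ, 1 ≤ m ∧ IsUnit ((m : ℕ) : ResidueField A) ∧
      (letI := (coverHom V).toAlgebra; ∀ i, IndexDvd (Ideal.span {f i}) Γ(V.left, ⊤) m) := by
  classical
  obtain ⟨hVaff, hCalg⟩ := cover_algebra V
  haveI := hVaff
  let C := Γ(V.left, ⊤)
  letI : Algebra A C := (coverHom V).toAlgebra
  obtain ⟨aC, htC, hfC, heC⟩ := hCalg
  letI := aC
  haveI := htC; haveI := hfC; haveI := heC
  let N := (Module.finrank (FractionRing A) (FractionRing A ⊗[A] C))!
  have hN : ∀ i, IndexDvd (Ideal.span {f i}) C N := fun i =>
    index_facts f hm hf C htame i fun e he hle _ => Nat.dvd_factorial he hle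
  obtain ⟨p, hp⟩ := CharP.exists (ResidueField A)
  rcases CharP.char_is_prime_or_zero (ResidueField A) p with hpp | rfl
  swap
  · haveI := CharP.charP_to_charZero (ResidueField A)
    exact ⟨N, Nat.factorial_pos _, isUnit_iff_ne_zero.mpr (Nat.cast_ne_zero.mpr (Nat.factorial_ne_zero _)), hN⟩
  haveI := Fact.mk hpp
  let k := N.factorization p
  let m := N / p ^ k
  have hNm : p ^ k * m = N := Nat.ordProj_mul_ordCompl_eq_self N p
  have hm0 : 1 ≤ m := Nat.ordCompl_pos p (Nat.factorial_ne_zero _)
  have hpm : ¬ p ∣ m := Nat.not_dvd_ordCompl hpp (Nat.factorial_ne_zero _)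
  refine ⟨m, hm0, isUnit_iff_ne_zero.mpr fun h => hpm ((CharP.cast_eq_zero_iff _ p m).mp h), ?_⟩
  have hpA : (p : A) ∈ maximalIdeal A := by
    rw [← residue_eq_zero_iff, map_natCast]; exact CharP.cast_eq_zero _ p
  have hdvd : ∀ j, (p : A) ∈ Ideal.span {f j} → IndexDvd (Ideal.span {f j}) C m := fun j hj =>
    index_facts f hm hf C htame j fun e he hle hne => by
      refine Nat.Coprime.dvd_of_dvd_mul_left (m := p ^ k) (n := m) ?_ (by rw [hNm]; exact Nat.dvd_factorial he hle)
      exact (Nat.Coprime.pow_left k ((hpp.coprime_iff_not_dvd).mpr (hne p hpp hj))).symm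
  have hpk : ∀ _ : Fin r, 1 ≤ p ^ k * m := fun _ => by rw [hNm]; exact Nat.factorial_pos _
  obtain ⟨W, hW⟩ := exists_extension f hm hf hpk V htame (fun i => hNm.symm ▸ hN i)
  obtain ⟨E, _, _, _, _, ψ, hψ⟩ := Translate.algebra_of_iso V C V.left.isoSpec (specMap_coverHom V)
    (SGA1.kummerAlg A f (fun _ => p ^ k * m)) (isPullback_morphismRestrict _ _) (s := ∏ i, f i) rfl W hW
  intro i
  exact indexDvd_of_model f hm hf C htame hm0 hpA hdvd _ (RingHom.id _) (fun _ => rfl) E ψ hψ i

end Groth.Agent.H9Tame
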