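import Groth.Agent.S0516
import Groth.Agent.H9Hens.Local
import Mathlib.RingTheory.Unramified.Field
import Mathlib.RingTheory.AdjoinRoot
import Mathlib.FieldTheory.PurelyInseparable.Basic

/-!
# Covers split by adjoining a `p`-th root
-/

set_option autoImplicit false
set_option linter.style.haveILetI false

universe u

open IsLocalRing Polynomial
open scoped TensorProduct

noncomputable section

namespace Groth.Agent.H9Tame

/-- A finite etale algebra over a strictly henselian local ring is split. -/
theorem exists_pi_equiv (R C : Type u) [CommRing R] [HenselianLocalRing R] [IsSepClosed (ResidueField R)]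
    [CommRing C] [Algebra R C] [Module.Finite R C] [Algebra.Etale R C] :
    ∃ (ι : Type u) (_ : Fintype ι), Nonempty (C ≃ₐ[R] (ι → R)) := by
  classical
  obtain ⟨ι, _, A, _, _, B, _, _, hsurj, hB, ⟨e⟩⟩ := Groth.Agent.S0516.result R C
  haveI : Module.Finite R ((∀ i, A i) × B) := Module.Finite.equiv e.toLinearEquiv
  haveI : Module.Flat R ((∀ i, A i) × B) := Module.Flat.of_linearEquiv e.toLinearEquiv.symm
  haveI : Module.Finite R B := Module.Finite.of_surjective (LinearMap.snd R (∀ i, A i) B) Prod.snd_surjective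
  have hBsub : Subsingleton B := by
    have h : (⊤ : Submodule R B) ≤ maximalIdeal R • (⊤ : Submodule R B) := by
      rw [Ideal.smul_top_eq_map, hB]
      intro x _
      trivial
    have := Submodule.eq_bot_of_le_smul_of_le_jacobson_bot (maximalIdeal R) ⊤ Module.Finite.fg_top h
      (maximalIdeal_le_jacobson ⊥)
    exact Submodule.subsingleton_iff R |>.mp (subsingleton_iff_bot_eq_top.mp this.symm)
  have hA : ∀ i, Subsingleton (A i) ∨ Function.Bijective (algebraMap R (A i)) := fun i => by
    haveI : Module.Finite R (A i) := Module.Finite.of_surjective (Algebra.linearMap R (A i)) (hsurj i)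
    haveI : Module.Flat R (A i) := Module.Flat.of_retract
      ((LinearMap.inl R (∀ i, A i) B).comp (LinearMap.single R A i))
      ((LinearMap.proj i).comp (LinearMap.fst R (∀ i, A i) B))
      (LinearMap.ext fun x => by simp)
    haveI : Module.Free R (A i) := Module.free_of_flat_of_isLocalRing
    refine (subsingleton_or_nontrivial (A i)).imp id fun hn => ⟨?_, hsurj i⟩
    haveI := hn
    obtain ⟨⟨σ, b⟩⟩ := ‹Module.Free R (A i)›.exists_basis
    obtain ⟨j⟩ : Nonempty σ := b.index_nonempty
    rw [injective_iff_map_eq_zero]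
    intro r hr
    have h1 : r • b j = 0 := by rw [Algebra.smul_def, hr, zero_mul]
    have h2 := congrArg (fun x => b.repr x j) h1
    simpa using h2
  let J := {i : ι // Nontrivial (A i)}
  let g : C →ₐ[R] (J → R) := Pi.algHom R _ fun i =>
    ((AlgEquiv.ofBijective (Algebra.ofId R (A i.1)) ((hA i.1).resolve_left
      (not_subsingleton_iff_nontrivial.mpr i.2))).symm.toAlgHom.comp
        ((Pi.evalAlgHom R A i.1).comp ((AlgHom.fst R (∀ i, A i) B).comp e.toAlgHom)))
  refine ⟨J, Fintype.ofFinite J, ⟨AlgEquiv.ofBijective g ⟨fun x y hxy => ?_, fun v => ?_⟩⟩⟩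
  · refine e.injective (Prod.ext (funext fun i => ?_) (Subsingleton.elim _ _))
    rcases subsingleton_or_nontrivial (A i) with h | h
    · exact Subsingleton.elim _ _
    · exact (AlgEquiv.ofBijective (Algebra.ofId R (A i)) ((hA i).resolve_left
        (not_subsingleton_iff_nontrivial.mpr h))).symm.injective (congrFun hxy ⟨i, h⟩)
  · refine ⟨e.symm (fun i => if h : Nontrivial (A i) then algebraMap R (A i) (v ⟨i, h⟩) else 0, 0), ?_⟩
    funext i
    show ((AlgEquiv.ofBijective (Algebra.ofId R (A i.1)) ((hA i.1).resolve_left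
      (not_subsingleton_iff_nontrivial.mpr i.2))).symm) ((e (e.symm _)).1 i.1) = v i
    rw [AlgEquiv.apply_symm_apply]
    simp only [dif_pos i.2]
    exact AlgEquiv.symm_apply_apply _ _

/-- A reduced finite unramified algebra over a field all of whose `p`-th powers are scalars is trivial. -/
theorem surjective_of_pow_mem {κ N : Type u} [Field κ] [CommRing N] [Algebra κ N] [Module.Finite κ N]
    [Algebra.FormallyUnramified κ N] (p : ℕ) [Fact p.Prime] [CharP κ p]
    (h : ∀ x : N, x ^ p ∈ Set.range (algebraMap κ N)) : Function.Surjective (algebraMap κ N) := by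
  rcases subsingleton_or_nontrivial N with hN | hN
  · exact fun x => ⟨0, Subsingleton.elim _ _⟩
  haveI : IsReduced N := Algebra.FormallyUnramified.isReduced_of_field κ N
  haveI : IsArtinianRing N := isArtinian_of_tower κ inferInstance
  haveI : IsLocalRing N := by
    obtain ⟨M, hM⟩ := Ideal.exists_maximal N
    refine IsLocalRing.of_unique_max_ideal ⟨M, hM, fun M' hM' => ?_⟩
    ext x
    obtain ⟨c, hc⟩ := h x
    haveI := hM.isPrime; haveI := hM'.isPrime
    have key : ∀ (I : Ideal N) [I.IsPrime], x ∈ I ↔ c = 0 := fun I _ => by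
      refine ⟨fun hx => by_contra fun hne => ‹I.IsPrime›.ne_top (I.eq_top_of_isUnit_mem
        (hc ▸ Ideal.pow_mem_of_mem I hx p (Fact.out : p.Prime).pos) ((IsUnit.mk0 c hne).map _)), fun h0 => ?_⟩
      exact ‹I.IsPrime›.mem_of_pow_mem p (by rw [← hc, h0, map_zero]; exact zero_mem _)
    rw [key M', key M]
  letI : Field N := (IsArtinianRing.isField_of_isReduced_of_isLocalRing N).toField
  haveI : Algebra.IsSeparable κ N := Algebra.FormallyUnramified.isSeparable κ N
  haveI : IsPurelyInseparable κ N := by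
    rw [isPurelyInseparable_iff_pow_mem κ p]
    intro x
    exact ⟨1, by rw [pow_one]; exact h x⟩
  exact IsPurelyInseparable.surjective_algebraMap_of_isSeparable κ N

/-- An unramified finite algebra mapping to `R[T]/(T ^ p - a)` has scalar image, when `p` is not invertible. -/
theorem mem_range_of_hom_adjoinRoot {R B : Type u} [CommRing R] [IsDomain R] [CommRing B] [Algebra R B]
    [Module.Finite R B] [Algebra.FormallyUnramified R B] (p : ℕ) [hp : Fact p.Prime] (hpR : ¬ IsUnit (p : R))
    (a : R) (χ : B →ₐ[R] AdjoinRoot (X ^ p - C a : R[X])) (b : B) :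
    χ b ∈ Set.range (algebraMap R (AdjoinRoot (X ^ p - C a : R[X]))) := by
  classical
  let g : R[X] := X ^ p - C a
  have hg : g.Monic := monic_X_pow_sub_C a hp.out.ne_zero
  haveI := hg.free_adjoinRoot
  haveI := hg.finite_adjoinRoot
  obtain ⟨P, hP, hpP⟩ := Ideal.exists_le_maximal (Ideal.span {(p : R)})
    (by rwa [Ne, Ideal.span_singleton_eq_top])
  letI := Ideal.Quotient.field P
  haveI : CharP (R ⧸ P) p := by
    refine (CharP.charP_iff_prime_eq_zero hp.out).mpr ?_
    rw [← map_natCast (Ideal.Quotient.mk P), Ideal.Quotient.eq_zero_iff_mem]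
    exact hpP (Ideal.mem_span_singleton_self _)
  let R₁ := AdjoinRoot g
  let U := χ.range
  haveI : Module.Finite R U := Module.Finite.of_surjective χ.rangeRestrict.toLinearMap χ.rangeRestrict_surjective
  haveI : Algebra.FormallyUnramified R U :=
    Algebra.FormallyUnramified.of_surjective χ.rangeRestrict χ.rangeRestrict_surjective
  -- `p`-th powers are scalars modulo `P`
  have hpow : ∀ x : U, ∃ r : R, x ^ p - algebraMap R U r ∈ (P.map (algebraMap R U)).radical := by
    intro x
    obtain ⟨q, hq⟩ := AdjoinRoot.mk_surjective (g := g) (x : R₁)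
    obtain ⟨c, hc⟩ : ∃ c : R, ((x : R₁)) ^ p - algebraMap R R₁ c ∈ P.map (algebraMap R R₁) := by
      let F : R[X] →+* R₁ ⧸ P.map (algebraMap R R₁) := (Ideal.Quotient.mk _).comp (AdjoinRoot.mk g)
      suffices ∀ q : R[X], ∃ c : R, F q ^ p = F (C c) by
        obtain ⟨c, hc⟩ := this q
        refine ⟨c, ?_⟩
        rw [← Ideal.Quotient.eq, map_pow, ← hq]
        exact hc
      have hp0 : (p : R₁ ⧸ P.map (algebraMap R R₁)) = 0 := by
        rw [← map_natCast ((Ideal.Quotient.mk (P.map (algebraMap R R₁))).comp (algebraMap R R₁)),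
          RingHom.comp_apply, Ideal.Quotient.eq_zero_iff_mem]
        exact Ideal.mem_map_of_mem _ (hpP (Ideal.mem_span_singleton_self _))
      intro q
      induction q using Polynomial.induction_on' with
      | add q₁ q₂ h₁ h₂ =>
        obtain ⟨c₁, hc₁⟩ := h₁
        obtain ⟨c₂, hc₂⟩ := h₂
        refine ⟨c₁ + c₂, ?_⟩
        rcases subsingleton_or_nontrivial (R₁ ⧸ P.map (algebraMap R R₁)) with h | h
        · exact Subsingleton.elim _ _
        haveI : CharP (R₁ ⧸ P.map (algebraMap R R₁)) p := (CharP.charP_iff_prime_eq_zero hp.out).mpr hp0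
        rw [map_add, add_pow_char, hc₁, hc₂, C_add, map_add]
      | monomial n r =>
        refine ⟨r ^ p * a ^ n, ?_⟩
        have hFX : F X ^ p = F (C a) := by
          rw [← map_pow]
          show Ideal.Quotient.mk (P.map (algebraMap R R₁)) (AdjoinRoot.mk g (X ^ p)) =
            Ideal.Quotient.mk (P.map (algebraMap R R₁)) (AdjoinRoot.mk g (C a))
          rw [(AdjoinRoot.mk_eq_mk (g := X ^ p) (h := C a) (f := g)).mpr (dvd_refl g)]
        rw [← C_mul_X_pow_eq_monomial, map_mul, map_pow, mul_pow, ← pow_mul, mul_comm n p, pow_mul, hFX,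
          C_mul, C_pow, C_pow, map_mul, map_pow, map_pow]
    refine ⟨c, ?_⟩
    rw [Ideal.radical_eq_sInf, Submodule.mem_sInf]
    rintro Q ⟨hQ, hQprime⟩
    haveI := hQprime
    letI : Algebra U R₁ := U.val.toRingHom.toAlgebra
    haveI : IsScalarTower R U R₁ := IsScalarTower.of_algebraMap_eq fun _ => rfl
    haveI : Algebra.IsIntegral U R₁ := Algebra.IsIntegral.tower_top (R := R)
    obtain ⟨Q₁, -, hQ₁, hQ₁Q⟩ := Ideal.exists_ideal_over_prime_of_isIntegral Q (⊥ : Ideal R₁) (by
      rw [← RingHom.ker_eq_comap_bot, (RingHom.injective_iff_ker_eq_bot (algebraMap U R₁)).mp Subtype.val_injective]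
      exact bot_le)
    rw [← hQ₁Q, Ideal.mem_comap]
    have hPQ : P.map (algebraMap R R₁) ≤ Q₁ := by
      rw [IsScalarTower.algebraMap_eq R U R₁, ← Ideal.map_map, Ideal.map_le_iff_le_comap]
      exact hQ.trans hQ₁Q.ge
    exact hPQ hc
  -- so the fibre at `P` is trivial
  let M := U ⧸ LinearMap.range (Algebra.linearMap R U)
  have hfib : ∀ x : U, ∃ r : R, x - algebraMap R U r ∈ P.map (algebraMap R U) := by
    intro x
    letI := Ideal.Quotient.algebraQuotientOfLEComap (Ideal.le_comap_map (f := algebraMap R U) (I := P))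
    let N := U ⧸ P.map (algebraMap R U)
    haveI : IsScalarTower R (R ⧸ P) N := IsScalarTower.of_algebraMap_eq fun _ => rfl
    haveI : Module.Finite (R ⧸ P) N := Module.Finite.of_restrictScalars_finite R (R ⧸ P) N
    haveI : Algebra.FormallyUnramified R N :=
      Algebra.FormallyUnramified.of_surjective (Ideal.Quotient.mkₐ R _) Ideal.Quotient.mk_surjective
    haveI : Algebra.FormallyUnramified (R ⧸ P) N := Algebra.FormallyUnramified.of_restrictScalars R (R ⧸ P) N
    haveI : IsReduced N := Algebra.FormallyUnramified.isReduced_of_field (R ⧸ P) N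
    have hsurj := surjective_of_pow_mem (κ := R ⧸ P) (N := N) p fun z => by
      obtain ⟨z, rfl⟩ := Ideal.Quotient.mk_surjective z
      obtain ⟨r, hr⟩ := hpow z
      refine ⟨Ideal.Quotient.mk P r, ?_⟩
      rw [(Ideal.isRadical_iff_quotient_reduced (P.map (algebraMap R U))).mpr inferInstance |>.radical] at hr
      rw [← map_pow]
      exact (Ideal.Quotient.eq.mpr hr).symm
    obtain ⟨r, hr⟩ := hsurj (Ideal.Quotient.mk _ x)
    obtain ⟨r, rfl⟩ := Ideal.Quotient.mk_surjective r
    exact ⟨r, Ideal.Quotient.eq.mp hr.symm⟩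
  have hM : (⊤ : Submodule R M) ≤ P • ⊤ := by
    intro z _
    obtain ⟨x, rfl⟩ := Submodule.Quotient.mk_surjective _ z
    obtain ⟨r, hr⟩ := hfib x
    have h1 : x - algebraMap R U r ∈ (P • ⊤ : Submodule R U) := by rw [Ideal.smul_top_eq_map]; exact hr
    have h2 := Submodule.mem_map_of_mem (f := (LinearMap.range (Algebra.linearMap R U)).mkQ) h1
    rw [Submodule.map_smul'', Submodule.map_top, Submodule.range_mkQ, map_sub] at h2
    rwa [show (LinearMap.range (Algebra.linearMap R U)).mkQ (algebraMap R U r) = 0 from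
      (Submodule.Quotient.mk_eq_zero _).mpr ⟨r, rfl⟩, sub_zero] at h2
  obtain ⟨s, hs, hsM⟩ :=
    Submodule.exists_sub_one_mem_and_smul_eq_zero_of_fg_of_le_smul P ⊤ Module.Finite.fg_top hM
  have hs0 : s ≠ 0 := fun h0 => hP.ne_top ((Ideal.eq_top_iff_one _).mpr (by simpa [h0] using hs))
  obtain ⟨r, hr⟩ := (Submodule.Quotient.mk_eq_zero _).mp
    (show (LinearMap.range (Algebra.linearMap R U)).mkQ (s • χ.rangeRestrict b) = 0 by
      rw [map_smul]; exact hsM _ Submodule.mem_top)
  -- compare coordinates
  let pb := AdjoinRoot.powerBasis' hg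
  have hdeg : 0 < pb.dim := by
    rw [AdjoinRoot.powerBasis'_dim, natDegree_X_pow_sub_C]
    exact hp.out.pos
  have h1 : s • χ b = algebraMap R R₁ r := (congrArg Subtype.val hr).symm
  refine ⟨pb.basis.repr (χ b) ⟨0, hdeg⟩, ?_⟩
  have hrepr : ∀ c : R, pb.basis.repr (algebraMap R R₁ c) = Finsupp.single ⟨0, hdeg⟩ c := fun c => by
    rw [Algebra.algebraMap_eq_smul_one, map_smul, show (1 : R₁) = pb.basis ⟨0, hdeg⟩ by
      rw [pb.basis_eq_pow]; exact (pow_zero _).symm, Module.Basis.repr_self, Finsupp.smul_single, smul_eq_mul, mul_one]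
  refine pb.basis.repr.injective (Finsupp.ext fun i => ?_)
  rw [hrepr]
  by_cases hi : i = ⟨0, hdeg⟩
  · rw [hi, Finsupp.single_eq_same]
  · rw [Finsupp.single_eq_of_ne hi]
    have h2 := congrArg (fun z => pb.basis.repr z i) h1
    simp only [map_smul, hrepr, Finsupp.smul_apply, smul_eq_mul, Finsupp.single_eq_of_ne hi] at h2
    exact ((mul_eq_zero.mp h2).resolve_left hs0).symm

end Groth.Agent.H9Tame
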