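import Groth.Agent.H9Tame.Extension
import Groth.Agent.H9Tame.KummerFacts
import Groth.Agent.H9Tame.Core

/-!
# Points of covers with values in Kummer algebras
-/

set_option autoImplicit false
set_option linter.style.haveILetI false

universe u

open IsLocalRing Polynomial
open scoped TensorProduct

noncomputable section

namespace Groth.Agent.H9Tame

/-- Points of a cover extending to a finite etale algebra are rational over strictly henselian rings. -/
theorem rational_of_model {A A₀ A'' : Type u} [CommRing A] [CommRing A₀] [CommRing A''] [Algebra A A₀]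
    [Algebra A₀ A''] [HenselianLocalRing A''] [IsSepClosed (ResidueField A'')] {C : Type u} [CommRing C]
    [Algebra A C] {E : Type u} [CommRing E] [Algebra A₀ E] [Module.Finite A₀ E] [Algebra.Etale A₀ E] {s : A}
    (ψ : E →ₐ[A₀] A₀ ⊗[A] C)
    (hψ : letI := ψ.toRingHom.toAlgebra; IsLocalization.Away (algebraMap A₀ E (algebraMap A A₀ s)) (A₀ ⊗[A] C))
    {Ω : Type u} [Field Ω] (Ψ : A'' →+* Ω) (χ : C →+* Ω)
    (hcomp : χ.comp (algebraMap A C) = Ψ.comp ((algebraMap A₀ A'').comp (algebraMap A A₀))) (c : C) :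
    ∃ (k : ℕ) (a : A''), χ c * Ψ (algebraMap A₀ A'' (algebraMap A A₀ s)) ^ k = Ψ a := by
  letI : Algebra A Ω := (χ.comp (algebraMap A C)).toAlgebra
  letI : Algebra A₀ Ω := (Ψ.comp (algebraMap A₀ A'')).toAlgebra
  letI : Algebra A'' Ω := Ψ.toAlgebra
  haveI : IsScalarTower A A₀ Ω := IsScalarTower.of_algebraMap_eq fun x => RingHom.congr_fun hcomp x
  haveI : IsScalarTower A₀ A'' Ω := IsScalarTower.of_algebraMap_eq fun x => rfl
  let χ' : C →ₐ[A] Ω := { χ with commutes' := fun _ => rfl }
  let ω : A₀ ⊗[A] C →ₐ[A₀] Ω :=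
    Algebra.TensorProduct.lift (Algebra.ofId A₀ Ω) χ' fun _ _ => Commute.all _ _
  let ω'' : A'' ⊗[A₀] E →ₐ[A''] Ω :=
    Algebra.TensorProduct.lift (Algebra.ofId A'' Ω) (ω.comp ψ) fun _ _ => Commute.all _ _
  letI := ψ.toRingHom.toAlgebra
  haveI := hψ
  obtain ⟨k, e, he⟩ := IsLocalization.Away.surj (algebraMap A₀ E (algebraMap A A₀ s)) ((1 : A₀) ⊗ₜ[A] c)
  obtain ⟨a, ha⟩ := range_le_of_strictlyHenselian (R := A'') ω'' ((1 : A'') ⊗ₜ[A₀] e)
  refine ⟨k, a, ?_⟩
  have h1 := congrArg ω he
  rw [map_mul, map_pow, show algebraMap E (A₀ ⊗[A] C) (algebraMap A₀ E (algebraMap A A₀ s)) =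
    algebraMap A₀ _ (algebraMap A A₀ s) from ψ.commutes _, AlgHom.commutes,
    show ω ((1 : A₀) ⊗ₜ[A] c) = χ c by simp [ω, χ']] at h1
  refine h1.trans ?_
  show _ = algebraMap A'' Ω a
  rw [ha]
  simp [ω'']
  rfl

/-- Descent of rationality along a radicial extension, through an unramified model at a point of residue
characteristic `p`. -/
theorem rational_descent {R A'' : Type u} [CommRing R] [IsLocalRing R] [CommRing A''] [IsDomain A'']
    [IsIntegrallyClosed A''] {Ω : Type u} [Field Ω] [Algebra R Ω]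
    {p k : ℕ} [Fact p.Prime] (hp : (p : R) ∈ maximalIdeal R)
    (Ψ : A'' →+* Ω) (hΨ : Function.Injective Ψ) (M : Submonoid A'')
    (hM : ∀ u ∈ M, ∃ v : R, IsUnit v ∧ algebraMap R Ω v = Ψ u)
    (hintR : ∀ c : A'', IsIntegral R (Ψ c))
    (hfrob : ∀ a : A'', ∃ (b : R) (c : A''), Ψ (a ^ p ^ k) = algebraMap R Ω b + (p : Ω) * Ψ c)
    {E : Type u} [CommRing E] [Algebra R E] [Module.Finite R E] [Algebra.FormallyUnramified R E]
    (ω : E →ₐ[R] Ω) (hω : ∀ e, ∃ a b : A'', b ≠ 0 ∧ ω e * Ψ b = Ψ a)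
    (hintM : ∀ z : Ω, IsIntegral R z → ∃ u ∈ M,
      (letI := Ψ.toAlgebra; IsIntegral A'' (z * Ψ u))) (e : E) :
    ω e ∈ Set.range (algebraMap R Ω) := by
  letI : Algebra A'' Ω := Ψ.toAlgebra
  let E0 := ω.range
  haveI : Module.Finite R E0 := Module.Finite.of_surjective ω.rangeRestrict.toLinearMap ω.rangeRestrict_surjective
  haveI : Algebra.FormallyUnramified R E0 :=
    Algebra.FormallyUnramified.of_surjective ω.rangeRestrict ω.rangeRestrict_surjective
  haveI : CharP (ResidueField R) p := (CharP.charP_iff_prime_eq_zero Fact.out).mpr (by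
    rw [← map_natCast (residue R), residue_eq_zero_iff]; exact hp)
  have hsurj : Function.Surjective (algebraMap R E0) := by
    refine surjective_of_unramified_radicial (p := p) (k := k) fun x => ?_
    obtain ⟨x, hx⟩ := x
    obtain ⟨e, rfl⟩ := hx
    obtain ⟨u, hu, hint⟩ := hintM (ω e) ((IsIntegral.of_finite R e).map ω)
    obtain ⟨a, b, hb, hab⟩ := hω e
    have hfrac : ∃ a'' : A'', ω e * Ψ u = Ψ a'' := by
      let K := FractionRing A''
      let j : K →+* Ω := IsFractionRing.lift hΨ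
      have hj : ∀ y, j (algebraMap A'' K y) = Ψ y := fun y => IsFractionRing.lift_algebraMap hΨ y
      have hz : ω e * Ψ u = j (algebraMap A'' K (a * u) / algebraMap A'' K b) := by
        rw [map_div₀, hj, hj, map_mul, ← hab, eq_div_iff ((map_ne_zero_iff _ hΨ).mpr hb)]
        ring
      letI : Algebra K Ω := j.toAlgebra
      haveI : IsScalarTower A'' K Ω := IsScalarTower.of_algebraMap_eq fun y => (hj y).symm
      rw [hz] at hint ⊢
      have hint' : IsIntegral A'' (algebraMap A'' K (a * u) / algebraMap A'' K b) :=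
        (isIntegral_algebraMap_iff (B := Ω) j.injective).mp hint
      obtain ⟨y, hy⟩ := IsIntegrallyClosed.isIntegral_iff.mp hint'
      exact ⟨y, by rw [← hy, hj]⟩
    obtain ⟨a'', ha''⟩ := hfrac
    obtain ⟨b', c, hbc⟩ := hfrob a''
    obtain ⟨v, hv, hvu⟩ := hM u hu
    let w : R := ((hv.unit⁻¹ : Rˣ) : R) ^ p ^ k
    refine ⟨w * b', fun N hN => ?_⟩
    have hz : (ω e) ^ p ^ k - algebraMap R Ω (w * b') = (p : Ω) * (algebraMap R Ω w * Ψ c) := by
      have h1 : algebraMap R Ω v * algebraMap R Ω ((hv.unit⁻¹ : Rˣ) : R) = 1 := by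
        rw [← map_mul, hv.mul_val_inv, map_one]
      have h2 : (ω e) ^ p ^ k = algebraMap R Ω w * Ψ (a'' ^ p ^ k) := by
        rw [map_pow Ψ, ← ha'', ← hvu, mul_pow, map_pow, mul_comm ((ω e) ^ _), ← mul_assoc, ← mul_pow,
          mul_comm (algebraMap R Ω _) (algebraMap R Ω v), h1, one_pow, one_mul]
      rw [h2, hbc, map_mul]
      ring
    -- `p` times an element integral over `R`
    let z : Ω := algebraMap R Ω w * Ψ c
    obtain ⟨P, hP, hPz⟩ := ((isIntegral_algebraMap (x := w) (A := Ω)).mul (hintR c) : IsIntegral R z)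
    let Q := P.scaleRoots (p : R)
    let y : E0 := (⟨ω e, e, rfl⟩ : E0) ^ p ^ k - algebraMap R E0 (w * b')
    have hy : ((y : E0) : Ω) = algebraMap R Ω (p : R) * z := by
      rw [map_natCast]
      exact hz
    have hQy : aeval y Q = 0 := by
      refine Subtype.ext ?_
      show E0.val (aeval y Q) = 0
      rw [← Polynomial.aeval_algHom_apply, show E0.val y = _ from hy]
      exact Polynomial.scaleRoots_aeval_eq_zero hPz
    have hNp : algebraMap R E0 (p : R) ∈ N := by
      haveI := hN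
      exact (eq_maximalIdeal (Ideal.isMaximal_comap_of_isIntegral_of_isMaximal (R := R) N)).ge hp
    have hmap : Q.map ((Ideal.Quotient.mk N).comp (algebraMap R E0)) = X ^ P.natDegree := by
      ext i
      rw [coeff_map, coeff_X_pow, Polynomial.coeff_scaleRoots]
      rcases lt_trichotomy i P.natDegree with h | h | h
      · rw [if_neg h.ne, map_mul, map_pow, RingHom.comp_apply, RingHom.comp_apply,
          Ideal.Quotient.eq_zero_iff_mem.mpr hNp, zero_pow (Nat.sub_ne_zero_of_lt h), mul_zero]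
      · rw [h, if_pos rfl, Nat.sub_self, pow_zero, mul_one, hP.coeff_natDegree, map_one]
      · rw [if_neg h.ne', Polynomial.coeff_eq_zero_of_natDegree_lt h, zero_mul, map_zero]
    have h0 : (Ideal.Quotient.mk N y) ^ P.natDegree = 0 := by
      have h := congrArg (Ideal.Quotient.mk N) hQy
      rw [aeval_def, Polynomial.hom_eval₂, map_zero, ← Polynomial.eval_map, hmap] at h
      simpa using h
    haveI := hN.isPrime
    exact Ideal.Quotient.eq_zero_iff_mem.mp (pow_eq_zero_iff'.mp h0).1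
  obtain ⟨r, hr⟩ := hsurj ⟨ω e, e, rfl⟩
  exact ⟨r, congrArg Subtype.val hr⟩

end Groth.Agent.H9Tame
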