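import Groth.Agent.H9Tame.Main
import Groth.Agent.H28Alg.RegularUFD
import Groth.Agent.H9Hens.BranchCore

/-!
# Regular tame covers of a strictly henselian regular ring
-/

set_option autoImplicit false
set_option linter.style.haveILetI false

universe u

open IsLocalRing Groth.Agent.H9Ram

noncomputable section

namespace Groth.Agent.H9Tame

/-- A regular finite domain over a henselian local ring is a regular local ring with the same residue field when
the base is strictly henselian. -/
theorem isRegularLocalRing_of_finite {A B : Type u} [CommRing A] [HenselianLocalRing A] [CommRing B] [IsDomain B]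
    [Algebra A B] [Module.Finite A B]
    (hreg : ∀ (q : Ideal B) [q.IsPrime], IsRegularLocalRing (Localization.AtPrime q)) :
    IsRegularLocalRing B := by
  haveI : IsLocalRing B := by
    obtain ⟨M, hM⟩ := Ideal.exists_maximal B
    haveI := hM
    haveI : (⊥ : Ideal B).IsPrime := Ideal.isPrime_bot
    exact IsLocalRing.of_unique_max_ideal ⟨M, hM, fun M' hM' =>
      haveI := hM'
      H9Hens.maximal_eq_of_prime_le_of_isIntegral (R := A) (P := (⊥ : Ideal B)) bot_le bot_le⟩
  haveI := hreg (maximalIdeal B)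
  let e : B ≃+* Localization.AtPrime (maximalIdeal B) :=
    (IsLocalization.atUnits B (maximalIdeal B).primeCompl fun x hx => not_not.mp hx).toRingEquiv
  exact IsRegularLocalRing.of_ringEquiv (R := Localization.AtPrime (maximalIdeal B)) e.symm

/-- Roots of units in a strictly henselian ring. -/
theorem exists_root_unit {B : Type u} [CommRing B] [HenselianLocalRing B]
    [IsSepClosed (ResidueField B)] (u : Bˣ) {e : ℕ} (he : IsUnit (e : B)) :
    ∃ w : B, w ^ e = u := by
  rcases Nat.eq_zero_or_pos e with rfl | he0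
  · rw [Nat.cast_zero] at he
    exact ⟨0, by rw [pow_zero]; exact (isUnit_zero_iff.mp he ▸ eq_of_zero_eq_one (isUnit_zero_iff.mp he) 1 (u : B))⟩
  let u0 : ResidueField B := residue B u
  have hu0 : u0 ≠ 0 := (residue_ne_zero_iff_isUnit _).mpr u.isUnit
  have heκ : (e : ResidueField B) ≠ 0 := by
    rw [← map_natCast (residue B)]; exact (residue_ne_zero_iff_isUnit _).mpr he
  obtain ⟨x0, hx0⟩ := IsSepClosed.exists_root (Polynomial.X ^ e - Polynomial.C u0)
    (by rw [Polynomial.degree_X_pow_sub_C he0]; exact_mod_cast he0.ne')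
    (Polynomial.separable_X_pow_sub_C u0 heκ hu0)
  obtain ⟨a₀, rfl⟩ := residue_surjective x0
  rw [Polynomial.IsRoot, Polynomial.eval_sub, Polynomial.eval_pow, Polynomial.eval_X, Polynomial.eval_C,
    sub_eq_zero] at hx0
  have hne : residue B a₀ ≠ 0 := fun h0 => hu0 (by rw [← hx0, h0, zero_pow he0.ne'])
  obtain ⟨w, hw, -⟩ := HenselianLocalRing.is_henselian (Polynomial.X ^ e - Polynomial.C (u : B))
    (Polynomial.monic_X_pow_sub_C _ he0.ne') a₀
    (by
      rw [← residue_eq_zero_iff]
      simp only [Polynomial.eval_sub, Polynomial.eval_pow, Polynomial.eval_X, Polynomial.eval_C, map_sub, map_pow]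
      rw [hx0, sub_self])
    (by
      rw [Polynomial.derivative_sub, Polynomial.derivative_C, sub_zero, Polynomial.derivative_X_pow,
        Polynomial.eval_mul, Polynomial.eval_C, Polynomial.eval_pow, Polynomial.eval_X]
      exact he.mul (((residue_ne_zero_iff_isUnit _).mp hne).pow _))
  rw [Polynomial.IsRoot, Polynomial.eval_sub, Polynomial.eval_pow, Polynomial.eval_X, Polynomial.eval_C,
    sub_eq_zero] at hw
  exact ⟨w, hw⟩

/-- The residue field of a finite algebra embedding into one with trivial residue extension. -/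
theorem isSepClosed_residueField {A B : Type u} [CommRing A] [IsLocalRing A] [IsSepClosed (ResidueField A)]
    [CommRing B] [IsLocalRing B] [Algebra A B] [Module.Finite A B] [IsLocalHom (algebraMap A B)] :
    IsSepClosed (ResidueField B) := by
  haveI : Module.Finite (ResidueField A) (ResidueField B) := inferInstance
  exact Algebra.IsAlgebraic.isSepClosed (F := ResidueField A)

section

variable {A : Type u} [CommRing A] [IsRegularLocalRing A] {r : ℕ} {f : Fin r → A}
  {B : Type u} [CommRing B] [IsDomain B] [IsRegularLocalRing B] [Algebra A B]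

/-- The shape of a parameter in a regular algebra embedding into a Kummer algebra. -/
theorem exists_eq_unit_mul_pow_of_embedding [IsDomain A] {A' : Type u} [CommRing A'] [IsDomain A'] [IsNoetherianRing A']
    [Algebra A A'] [Algebra B A'] [IsScalarTower A B A'] [Algebra.IsIntegral B A']
    (hinj : Function.Injective (algebraMap B A')) {x : A} (hx : algebraMap A B x ≠ 0)
    {t : A'} (ht : Prime t) {m : ℕ} (hm0 : 1 ≤ m) (htm : t ^ m = algebraMap A A' x) :
    ∃ (π : B) (e : ℕ) (u : Bˣ), Prime π ∧ e ∣ m ∧ algebraMap A B x = u * π ^ e ∧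
      ∀ P : Ideal B, P.IsPrime → algebraMap A B x ∈ P → π ∈ P := by
  haveI := H28Alg.ufd_of_regular B
  have hover : ∀ P : Ideal B, P.IsPrime → algebraMap A B x ∈ P →
      Ideal.comap (algebraMap B A') (Ideal.span {t}) ≤ P := by
    intro P hP hxP
    haveI := hP
    obtain ⟨Q, -, hQ, hQP⟩ := Ideal.exists_ideal_over_prime_of_isIntegral P (⊥ : Ideal A')
      (by rw [← RingHom.ker_eq_comap_bot, (RingHom.injective_iff_ker_eq_bot _).mp hinj]; exact bot_le)
    haveI := hQ
    have h1 : algebraMap A A' x ∈ Q := by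
      rw [IsScalarTower.algebraMap_apply A B A', ← Ideal.mem_comap, hQP]
      exact hxP
    rw [← htm] at h1
    rw [← hQP]
    exact Ideal.comap_mono ((Ideal.span_singleton_le_iff_mem Q).mpr (hQ.mem_of_pow_mem _ h1))
  haveI hTp : (Ideal.span {t}).IsPrime := (Ideal.span_singleton_prime ht.ne_zero).mpr ht
  let Q := Ideal.comap (algebraMap B A') (Ideal.span {t})
  haveI : Q.IsPrime := Ideal.IsPrime.comap _
  have hxQ : algebraMap A B x ∈ Q := by
    rw [Ideal.mem_comap, ← IsScalarTower.algebraMap_apply, ← htm]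
    exact Ideal.pow_mem_of_mem _ (Ideal.mem_span_singleton_self t) _ hm0
  have hQh : Q.height ≤ 1 := by
    refine Ideal.height_le_one_of_isPrincipal_of_mem_minimalPrimes (Ideal.span {algebraMap A B x}) Q
      ⟨⟨inferInstance, (Ideal.span_singleton_le_iff_mem Q).mpr hxQ⟩, fun P hP _ => ?_⟩
    exact hover P hP.1 (hP.2 (Ideal.mem_span_singleton_self _))
  obtain ⟨π, hπQ, hπ⟩ := Ideal.IsPrime.exists_mem_prime_of_ne_bot ‹Q.IsPrime›
    fun h0 => hx (by rwa [h0, Ideal.mem_bot] at hxQ)
  haveI hπp : (Ideal.span {π}).IsPrime := (Ideal.span_singleton_prime hπ.ne_zero).mpr hπ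
  have hQ : Q = Ideal.span {π} := eq_span_of_mem_of_height_le_one hπ.ne_zero Q hπQ hQh
  have hall : ∀ P : Ideal B, P.IsPrime → algebraMap A B x ∈ P → π ∈ P := fun P hP hxP => hover P hP hxP hπQ
  obtain ⟨e, u₀, hu₀, hxe⟩ := WfDvdMonoid.max_power_factor hx hπ.irreducible
  have hu : IsUnit u₀ := by
    by_contra hn
    obtain ⟨P, hP, hPle⟩ := Ideal.exists_minimalPrimes_le
      ((Ideal.span_singleton_le_iff_mem _).mpr hn : Ideal.span {u₀} ≤ maximalIdeal B)
    haveI := hP.isPrime
    have huP : u₀ ∈ P := hP.le (Ideal.mem_span_singleton_self _)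
    have hπP := hall P hP.isPrime (by rw [hxe]; exact Ideal.mul_mem_left _ _ huP)
    refine hu₀ ?_
    rw [← Ideal.mem_span_singleton, ← eq_span_of_mem_of_height_le_one hπ.ne_zero P hπP
      (Ideal.height_le_one_of_isPrincipal_of_mem_minimalPrimes (Ideal.span {u₀}) P hP)]
    exact huP
  obtain ⟨u, rfl⟩ := hu
  refine ⟨π, e, u, hπ, ?_, by rw [hxe, mul_comm], hall⟩
  -- the exponent divides `m`
  have hπt : t ∣ algebraMap B A' π := Ideal.mem_span_singleton.mp hπQ
  obtain ⟨d, v, hv, hπd⟩ := WfDvdMonoid.max_power_factor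
    ((map_ne_zero_iff _ hinj).mpr hπ.ne_zero) ht.irreducible
  have key : t ^ m = algebraMap B A' (u : B) * v ^ e * t ^ (d * e) := by
    rw [htm, IsScalarTower.algebraMap_apply A B A', hxe, map_mul, map_pow, hπd, mul_pow, ← pow_mul]
    ring
  have hnd : ¬ t ∣ algebraMap B A' (u : B) * v ^ e := fun hd => by
    rcases ht.dvd_or_dvd hd with h1 | h1
    · exact ht.not_isUnit (isUnit_of_dvd_unit h1 (u.isUnit.map _))
    · exact hv (ht.dvd_of_dvd_pow h1)
  refine ⟨d, ?_⟩
  rcases lt_trichotomy m (d * e) with h | h | h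
  · exfalso
    have h1 : t ^ m * 1 = t ^ m * (algebraMap B A' (u : B) * v ^ e * t ^ (d * e - m)) := by
      rw [mul_one]
      conv_lhs => rw [key]
      rw [show t ^ (d * e) = t ^ m * t ^ (d * e - m) by rw [← pow_add, Nat.add_sub_cancel' h.le]]
      ring
    exact ht.not_isUnit (isUnit_of_dvd_one (mul_left_cancel₀ (pow_ne_zero _ ht.ne_zero) h1 ▸
      dvd_mul_of_dvd_right (dvd_pow_self t (Nat.sub_ne_zero_of_lt h)) _))
  · rw [h, mul_comm]
  · exfalso
    have h1 : t ^ (d * e) * t ^ (m - d * e) = t ^ (d * e) * (algebraMap B A' (u : B) * v ^ e) := by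
      rw [← pow_add, Nat.add_sub_cancel' h.le, key, mul_comm]
    exact hnd (mul_left_cancel₀ (pow_ne_zero _ ht.ne_zero) h1 ▸ dvd_pow_self t (Nat.sub_ne_zero_of_lt h))

end

end Groth.Agent.H9Tame
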