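import Groth.Agent.H9Tame.Regular

/-!
# Helpers for regular tame covers
-/

set_option autoImplicit false
set_option linter.style.haveILetI false

universe u

open IsLocalRing Groth.Agent.H9Ram AlgebraicGeometry CategoryTheory CategoryTheory.Limits
open scoped TensorProduct

noncomputable section

namespace Groth.Agent.H9Tame

/-- Tameness transfers along an isomorphism of fields. -/
theorem isTamelyRamified_of_equiv {A L L' : Type u} [CommRing A] [IsLocalRing A] [Field L] [Field L'] (e : L ≃+* L')
    {g : A →+* L} (h : EtRam.IsTamelyRamified A g) : EtRam.IsTamelyRamified A (e.toRingHom.comp g) := by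
  intro V hV
  let V' := V.comap e.toRingHom
  have hV' : EtRam.Dominates A g V' := Dom.comap e.toRingHom hV
  letI : Algebra A V := (RingHom.codRestrict (e.toRingHom.comp g) V hV.1).toAlgebra
  letI : Algebra A V' := (RingHom.codRestrict g V' hV'.1).toAlgebra
  intro _
  haveI : IsLocalHom (algebraMap A V') := Dom.isLocalHom hV'
  obtain ⟨h1, h2⟩ := h V' hV'
  let j : V' ≃ₐ[A] V :=
    { toFun := fun v => ⟨e v, v.2⟩
      invFun := fun v => ⟨e.symm v, show e (e.symm v) ∈ V by rw [e.apply_symm_apply]; exact v.2⟩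
      left_inv := fun v => Subtype.ext (e.symm_apply_apply _)
      right_inv := fun v => Subtype.ext (e.apply_symm_apply _)
      map_mul' := fun a b => Subtype.ext (map_mul e _ _)
      map_add' := fun a b => Subtype.ext (map_add e _ _)
      commutes' := fun a => Subtype.ext rfl }
  haveI : IsLocalHom j.toAlgHom.toRingHom := ⟨fun x hx => by simpa using hx.map j.symm⟩
  have hmap : (maximalIdeal V').map j = maximalIdeal V :=
    IsLocalRing.map_maximalIdeal_of_surjective j.toAlgHom.toRingHom j.surjective
  refine ⟨?_, fun p hp hc => ?_⟩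
  · haveI := h1
    let φ := ResidueField.map j.toAlgHom.toRingHom
    have hφ : Function.Bijective φ := ⟨φ.injective, fun y => by
      obtain ⟨x, rfl⟩ := residue_surjective y
      obtain ⟨z, rfl⟩ := j.surjective x
      exact ⟨residue V' z, rfl⟩⟩
    let φ' : ResidueField V' ≃ₐ[ResidueField A] ResidueField V :=
      { RingEquiv.ofBijective φ hφ with
        commutes' := fun a => by
          obtain ⟨a, rfl⟩ := residue_surjective a
          show φ (residue V' (algebraMap A V' a)) = residue V (algebraMap A V a)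
          rw [← j.commutes]
          rfl }
    exact AlgEquiv.Algebra.isSeparable φ'
  · rw [← hmap, Ideal.ramificationIdx'_map_eq]
    exact h2 p hp hc

/-- An integral fraction over a normal domain is in it. -/
theorem mem_range_of_isIntegral_of_fraction {R Ω : Type u} [CommRing R] [IsDomain R] [IsIntegrallyClosed R]
    [Field Ω] (Ψ : R →+* Ω) (hΨ : Function.Injective Ψ) {z : Ω}
    (hint : letI := Ψ.toAlgebra; IsIntegral R z) {a b : R} (hb : b ≠ 0) (hab : z * Ψ b = Ψ a) :
    ∃ x : R, Ψ x = z := by
  let K := FractionRing R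
  obtain ⟨j, hj⟩ : ∃ j : K →+* Ω, ∀ y, j (algebraMap R K y) = Ψ y :=
    ⟨IsFractionRing.lift hΨ, fun y => IsFractionRing.lift_algebraMap hΨ y⟩
  letI : Algebra R Ω := Ψ.toAlgebra
  letI : Algebra K Ω := j.toAlgebra
  haveI : IsScalarTower R K Ω := IsScalarTower.of_algebraMap_eq fun y => (hj y).symm
  have hz : z = j (algebraMap R K a / algebraMap R K b) := by
    rw [map_div₀, hj, hj, eq_div_iff ((map_ne_zero_iff _ hΨ).mpr hb), hab]
  rw [hz] at hint ⊢
  obtain ⟨y, hy⟩ := IsIntegrallyClosed.isIntegral_iff.mp ((isIntegral_algebraMap_iff (B := Ω) j.injective).mp hint)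
  exact ⟨y, by rw [← hy, hj]⟩

/-- The ramification index at a place of the fraction field of a regular algebra. -/
theorem ramificationIdx_of_prime {A B L : Type u} [CommRing A] [IsDomain A] [IsNoetherianRing A] {x : A} (hx0 : x ≠ 0)
    [(Ideal.span {x}).IsPrime] [CommRing B] [IsDomain B] [IsNoetherianRing B] [Algebra A B] [Algebra.IsIntegral A B]
    [Field L] {K : Type u} [Field K] [Algebra (Localization.AtPrime (Ideal.span {x})) K]
    [IsFractionRing (Localization.AtPrime (Ideal.span {x})) K] [Algebra K L] [FiniteDimensional K L]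
    [Algebra.IsSeparable K L] (ι : B →+* L) (hι : Function.Injective ι)
    (hιA : ∀ a : A, ι (algebraMap A B a) =
      algebraMap K L (algebraMap (Localization.AtPrime (Ideal.span {x})) K (algebraMap A _ a)))
    (hgen : ∀ z : L, ∃ a b : B, b ≠ 0 ∧ z * ι b = ι a)
    {π : B} (hπ : Prime π) {e : ℕ} (he : 1 ≤ e) {u : Bˣ} (hxe : algebraMap A B x = u * π ^ e)
    (hall : ∀ P : Ideal B, P.IsPrime → algebraMap A B x ∈ P → π ∈ P)
    (V : ValuationSubring L)
    (hV : EtRam.Dominates (Localization.AtPrime (Ideal.span {x}))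
      ((algebraMap K L).comp (algebraMap (Localization.AtPrime (Ideal.span {x})) K)) V) :
    letI : Algebra (Localization.AtPrime (Ideal.span {x})) V := (RingHom.codRestrict
      ((algebraMap K L).comp (algebraMap (Localization.AtPrime (Ideal.span {x})) K)) V hV.1).toAlgebra
    Ideal.ramificationIdx' (maximalIdeal (Localization.AtPrime (Ideal.span {x}))) (maximalIdeal V) = e := by
  obtain ⟨hdR, hπA⟩ := isDVR_localization hx0
  haveI := hdR
  let R := Localization.AtPrime (Ideal.span {x})
  letI : Algebra R V := (RingHom.codRestrict ((algebraMap K L).comp (algebraMap R K)) V hV.1).toAlgebra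
  haveI hlR : IsLocalHom (algebraMap R V) := Dom.isLocalHom hV
  haveI : IsDiscreteValuationRing V := ValSub.isDVR hV
  have hiV : Function.Injective (algebraMap R V) := ValSub.codRestrict_injective
    (g := (algebraMap K L).comp (algebraMap R K))
    ((algebraMap K L).injective.comp (IsFractionRing.injective R K)) hV
  have hAV : ∀ a : A, ι (algebraMap A B a) = ((algebraMap R V (algebraMap A R a) : V) : L) := hιA
  have hBV : ∀ b : B, ι b ∈ V := fun b => by
    obtain ⟨p, hp, hpb⟩ := Algebra.IsIntegral.isIntegral (R := A) b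
    have hint : IsIntegral V (ι b) := ⟨p.map ((algebraMap R V).comp (algebraMap A R)), hp.map _, by
      rw [Polynomial.eval₂_map,
        show (algebraMap V L).comp ((algebraMap R V).comp (algebraMap A R)) = ι.comp (algebraMap A B) from
          RingHom.ext fun a => (hAV a).symm,
        ← Polynomial.hom_eval₂, hpb, map_zero]⟩
    obtain ⟨y, hy⟩ := IsIntegrallyClosed.isIntegral_iff.mp hint
    exact hy ▸ y.2
  let ιV : B →+* V := ι.codRestrict V.toSubring hBV
  let P := Ideal.comap ιV (maximalIdeal V)
  haveI : P.IsPrime := Ideal.IsPrime.comap _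
  have hPA : Ideal.comap (algebraMap A B) P = Ideal.span {x} := by
    ext a
    show ιV (algebraMap A B a) ∈ maximalIdeal V ↔ _
    rw [show ιV (algebraMap A B a) = algebraMap R V (algebraMap A R a) from Subtype.ext (hAV a),
      ← IsLocalization.AtPrime.to_map_mem_maximal_iff R (Ideal.span {x}) a, mem_maximalIdeal, mem_maximalIdeal,
      mem_nonunits_iff, mem_nonunits_iff, isUnit_map_iff]
  have hπP : π ∈ P := hall P inferInstance (hPA.ge (Ideal.mem_span_singleton_self x))
  haveI hπp : (Ideal.span {π}).IsPrime := (Ideal.span_singleton_prime hπ.ne_zero).mpr hπ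
  have hle : Ideal.span {π} ≤ P := (Ideal.span_singleton_le_iff_mem P).mpr hπP
  have hPeq : Ideal.span {π} = P := by
    by_contra hne
    obtain ⟨b, hbP, hb⟩ := SetLike.exists_of_lt (lt_of_le_of_ne hle hne)
    have h1 : Ideal.span {x} ≤ Ideal.comap (algebraMap A B) (Ideal.span {π}) := by
      rw [Ideal.span_singleton_le_iff_mem, Ideal.mem_comap, hxe]
      exact Ideal.mul_mem_left _ _ (Ideal.pow_mem_of_mem _ (Ideal.mem_span_singleton_self π) _ he)
    have h2 := Ideal.comap_lt_comap_of_integral_mem_sdiff hle ⟨hbP, hb⟩ (Algebra.IsIntegral.isIntegral (R := A) b)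
    rw [hPA] at h2
    exact h2.not_ge h1
  have hunit : ∀ b : B, ¬ π ∣ b → IsUnit (ιV b) := fun b hb => by
    by_contra hn
    have : b ∈ P := hn
    rw [← hPeq, Ideal.mem_span_singleton] at this
    exact hb this
  have hτ : Irreducible (ιV π) := by
    rw [IsDiscreteValuationRing.irreducible_iff_uniformizer]
    refine le_antisymm (fun v hv => ?_) ((Ideal.span_singleton_le_iff_mem _).mpr hπP)
    rw [Ideal.mem_span_singleton]
    by_cases hv0 : v = 0
    · rw [hv0]; exact dvd_zero _
    obtain ⟨a, b, hb, hab⟩ := hgen (v : L)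
    have ha : a ≠ 0 := fun h0 => by
      rw [h0, map_zero, mul_eq_zero] at hab
      exact hab.elim (fun h => hv0 (Subtype.ext h)) (fun h => hb (hι (h.trans (map_zero ι).symm)))
    obtain ⟨l, a', ha', hae⟩ := WfDvdMonoid.max_power_factor ha hπ.irreducible
    obtain ⟨j, b', hb', hbe⟩ := WfDvdMonoid.max_power_factor hb hπ.irreducible
    have key : v * ιV b = ιV a := Subtype.ext hab
    rw [hae, hbe, map_mul, map_mul, map_pow, map_pow] at key
    by_cases hjl : j < l
    · obtain ⟨d, rfl⟩ : ∃ d, l = j + (d + 1) := ⟨l - j - 1, by omega⟩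
      have hτ0 : ιV π ≠ 0 := fun h0 => hπ.ne_zero (hι ((congrArg Subtype.val h0).trans (map_zero ι).symm))
      have h3 : v * ιV b' = ιV π * (ιV π ^ d * ιV a') := by
        refine mul_left_cancel₀ (pow_ne_zero j hτ0) ?_
        rw [← mul_assoc, mul_comm _ v, mul_assoc, key, pow_add, pow_succ]
        ring
      exact (hunit b' hb').dvd_mul_right.mp ⟨_, h3⟩
    · exfalso
      obtain ⟨d, rfl⟩ : ∃ d, j = l + d := ⟨j - l, by omega⟩
      have hτ0 : ιV π ≠ 0 := fun h0 => hπ.ne_zero (hι ((congrArg Subtype.val h0).trans (map_zero ι).symm))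
      have h3 : v * (ιV π ^ d * ιV b') = ιV a' := by
        refine mul_left_cancel₀ (pow_ne_zero l hτ0) ?_
        rw [← key, pow_add]
        ring
      exact (mem_maximalIdeal v).mp hv (isUnit_of_mul_isUnit_left (h3 ▸ hunit a' ha'))
  obtain ⟨u', hu', -⟩ := TameBC.exists_eq_unit_mul_pow hiV hπA hτ
  have hxV : algebraMap R V (algebraMap A R x) = ιV u * ιV π ^ e := by
    rw [← map_pow, ← map_mul, ← hxe]
    exact (Subtype.ext (hAV x)).symm
  rw [hxV] at hu'
  have hassoc : Associated (ιV π ^ e) (ιV π ^ Ideal.ramificationIdx' (maximalIdeal R) (maximalIdeal V)) := by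
    have h4 : Associated (ιV π ^ e) (ιV u * ιV π ^ e) := associated_unit_mul_right _ _ (u.isUnit.map ιV)
    have h5 : Associated (ιV π ^ Ideal.ramificationIdx' (maximalIdeal R) (maximalIdeal V)) (ιV u * ιV π ^ e) := by
      rw [hu']; exact associated_unit_mul_right _ _ u'.isUnit
    exact h4.trans h5.symm
  exact le_antisymm ((pow_dvd_pow_iff hτ.ne_zero hτ.not_isUnit).mp hassoc.symm.dvd)
    ((pow_dvd_pow_iff hτ.ne_zero hτ.not_isUnit).mp hassoc.dvd)

end Groth.Agent.H9Tame
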