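import Groth.Agent.H9Tame.Regular2

/-!
# Covers given by finite algebras
-/

set_option autoImplicit false
set_option linter.style.haveILetI false

universe u

open IsLocalRing Groth.Agent.H9Ram AlgebraicGeometry CategoryTheory CategoryTheory.Limits
open scoped TensorProduct

noncomputable section

namespace Groth.Agent.H9Tame

variable {A : Type u} [CommRing A]

/-- A finite etale algebra over `A[1/s]` gives a cover. -/
theorem exists_cover (s : A) (B : Type u) [CommRing B] [Algebra A B] [Module.Finite A B]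
    [Algebra.Etale (Localization.Away s) (Localization.Away s ⊗[A] B)] :
    ∃ (V : FEt.Cat ((SGA1.specBasicOpen A s) : Scheme.{u})) (β : B →+* Γ(V.left, ⊤)),
      (∀ a, β (algebraMap A B a) = coverHom V a) ∧
      (∀ c, ∃ (b : B) (k : ℕ), c * coverHom V s ^ k = β b) ∧
      ∀ (Ω : Type u) [Field Ω] (j : B →+* Ω), j (algebraMap A B s) ≠ 0 →
        ∃ χ : Γ(V.left, ⊤) →+* Ω, ∀ b, χ (β b) = j b := by
  let As := Localization.Away s
  let C0 := As ⊗[A] B
  let e : (SGA1.specBasicOpen A s : Scheme.{u}) ≅ Spec (CommRingCat.of As) :=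
    basicOpenIsoSpecAway (R := CommRingCat.of A) s
  let g : Spec (CommRingCat.of C0) ⟶ Spec (CommRingCat.of As) := Spec.map (CommRingCat.ofHom (algebraMap As C0))
  haveI : IsFinite g := (IsFinite.SpecMap_iff _).mpr (RingHom.finite_algebraMap.mpr inferInstance)
  haveI : Etale g := (HasRingHomProperty.Spec_iff (P := @Etale)).mpr (RingHom.etale_algebraMap.mpr inferInstance)
  let V : FEt.Cat ((SGA1.specBasicOpen A s) : Scheme.{u}) :=
    MorphismProperty.Over.mk ⊤ (g ≫ e.inv) ⟨inferInstance, inferInstance⟩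
  let ι0 : C0 →+* Γ(V.left, ⊤) := (Scheme.ΓSpecIso (CommRingCat.of C0)).inv.hom
  have hι0 : Function.Surjective ι0 :=
    (Scheme.ΓSpecIso (CommRingCat.of C0)).symm.commRingCatIsoToRingEquiv.surjective
  have hcov : ∀ a, coverHom V a = ι0 (algebraMap A C0 a) := by
    intro a
    have h1 : V.hom ≫ (SGA1.specBasicOpen A s).ι = Spec.map (CommRingCat.ofHom (algebraMap A C0)) := by
      show (g ≫ e.inv) ≫ _ = _
      rw [IsScalarTower.algebraMap_eq A As C0, CommRingCat.ofHom_comp, Spec.map_comp, Category.assoc]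
      refine congrArg (g ≫ ·) ?_
      rw [Iso.inv_comp_eq]
      exact (basicOpenIsoSpecAway_hom_SpecMap (R := CommRingCat.of A) s).symm
    show ((Scheme.ΓSpecIso (CommRingCat.of A)).inv ≫ (V.hom ≫ (SGA1.specBasicOpen A s).ι).appTop).hom a = _
    erw [h1, ← Scheme.ΓSpecIso_inv_naturality]
    rfl
  refine ⟨V, ι0.comp (Algebra.TensorProduct.includeRight : B →ₐ[A] C0).toRingHom, fun a => ?_, fun c => ?_, ?_⟩
  rotate_right
  · intro Ω _ j hj
    letI : Algebra A Ω := (j.comp (algebraMap A B)).toAlgebra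
    obtain ⟨φ, hφ⟩ : ∃ φ : As →+* Ω, ∀ a, φ (algebraMap A As a) = algebraMap A Ω a :=
      ⟨IsLocalization.Away.lift s (IsUnit.mk0 (algebraMap A Ω s) hj),
        fun a => IsLocalization.Away.lift_eq _ _ a⟩
    let χ0 : C0 →ₐ[A] Ω := Algebra.TensorProduct.lift { φ with commutes' := hφ }
      { j with commutes' := fun _ => rfl } fun _ _ => Commute.all _ _
    refine ⟨χ0.toRingHom.comp (Scheme.ΓSpecIso (CommRingCat.of C0)).hom.hom, fun b => ?_⟩
    show χ0 ((Scheme.ΓSpecIso (CommRingCat.of C0)).hom.hom (ι0 ((1 : As) ⊗ₜ[A] b))) = j b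
    erw [Iso.inv_hom_id_apply]
    exact (Algebra.TensorProduct.lift_tmul _ _ _ _ _).trans (by rw [map_one, one_mul]; rfl)
  · rw [hcov]
    exact congrArg ι0 (AlgHom.commutes _ a)
  obtain ⟨x, rfl⟩ := hι0 c
  suffices h : ∃ (b : B) (k : ℕ), x * algebraMap A C0 s ^ k = (1 : As) ⊗ₜ[A] b by
    obtain ⟨b, k, hb⟩ := h
    refine ⟨b, k, ?_⟩
    rw [hcov, ← map_pow, ← map_mul, hb]
    rfl
  induction x using TensorProduct.induction_on with
  | zero => exact ⟨0, 0, by simp⟩
  | tmul z b =>
    obtain ⟨k, a, ha⟩ := IsLocalization.Away.surj s z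
    refine ⟨a • b, k, ?_⟩
    rw [← map_pow, Algebra.TensorProduct.algebraMap_apply, Algebra.TensorProduct.tmul_mul_tmul, mul_one,
      map_pow, ha, TensorProduct.tmul_smul, TensorProduct.smul_tmul', Algebra.smul_def, mul_one]
  | add x y hx hy =>
    obtain ⟨b, k, hb⟩ := hx
    obtain ⟨c, l, hc⟩ := hy
    refine ⟨algebraMap A B (s ^ l) * b + algebraMap A B (s ^ k) * c, k + l, ?_⟩
    show _ = (Algebra.TensorProduct.includeRight : B →ₐ[A] C0) _
    rw [map_add, map_mul, map_mul, AlgHom.commutes, AlgHom.commutes, Algebra.TensorProduct.includeRight_apply,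
      Algebra.TensorProduct.includeRight_apply, ← hb, ← hc, map_pow, map_pow, pow_add]
    ring

variable [IsDomain A] {B : Type u} [CommRing B] [IsDomain B] [Algebra A B] [Algebra.IsIntegral A B]
  {C : Type u} [CommRing C] [Algebra A C] (β : B →ₐ[A] C) {s : A}
  (hβ : ∀ c : C, ∃ (b : B) (k : ℕ), c * algebraMap A C s ^ k = β b)

/-- A map out of a domain integral over `A` which is injective on `A` is injective. -/
theorem injective_of_injective {S : Type u} [CommRing S] [IsDomain S] (j : B →+* S)
    (h : Function.Injective (j.comp (algebraMap A B))) : Function.Injective j := by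
  rw [RingHom.injective_iff_ker_eq_bot]
  haveI := RingHom.ker_isPrime j
  refine Ideal.eq_bot_of_comap_eq_bot (R := A) ?_
  rwa [RingHom.comap_ker, ← RingHom.injective_iff_ker_eq_bot]

theorem injective_algebraMap_residueField {q : Ideal C} [q.IsPrime]
    (hq : Ideal.comap (algebraMap A C) q = ⊥) :
    Function.Injective ((algebraMap C q.ResidueField).comp β.toRingHom) := by
  refine injective_of_injective (A := A) _ ?_
  rw [injective_iff_map_eq_zero]
  intro x hx
  rw [RingHom.comp_apply, RingHom.comp_apply, AlgHom.toRingHom_eq_coe, RingHom.coe_coe, AlgHom.commutes,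
    ← RingHom.mem_ker, Ideal.ker_algebraMap_residueField] at hx
  exact (hq.le hx : x ∈ (⊥ : Ideal A))

include hβ in
theorem exists_fraction {q : Ideal C} [q.IsPrime] (hq : Ideal.comap (algebraMap A C) q = ⊥) (hs : s ≠ 0)
    (z : q.ResidueField) : ∃ a b : B, b ≠ 0 ∧
      z * algebraMap C q.ResidueField (β b) = algebraMap C q.ResidueField (β a) := by
  obtain ⟨x, y, hy, rfl⟩ := IsFractionRing.div_surjective (A := C ⧸ q) z
  obtain ⟨x, rfl⟩ := Ideal.Quotient.mk_surjective x
  obtain ⟨y, rfl⟩ := Ideal.Quotient.mk_surjective y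
  obtain ⟨bx, k, hx⟩ := hβ x
  obtain ⟨by', l, hy'⟩ := hβ y
  have hyq : algebraMap C q.ResidueField y ≠ 0 := fun h0 => nonZeroDivisors.ne_zero hy <| by
    rwa [← RingHom.mem_ker, Ideal.ker_algebraMap_residueField, ← Ideal.Quotient.eq_zero_iff_mem] at h0
  have hsq : algebraMap C q.ResidueField (algebraMap A C s) ≠ 0 := fun h0 => hs <| by
    rw [← RingHom.mem_ker, Ideal.ker_algebraMap_residueField] at h0
    exact (hq.le h0 : s ∈ (⊥ : Ideal A))
  refine ⟨bx * algebraMap A B s ^ l, by' * algebraMap A B s ^ k, fun h0 => ?_, ?_⟩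
  · have := congrArg (fun b => algebraMap C q.ResidueField (β b)) h0
    simp only [map_mul, map_pow, AlgHom.commutes, ← hy', map_zero] at this
    exact mul_ne_zero (mul_ne_zero hyq (pow_ne_zero _ hsq)) (pow_ne_zero _ hsq) this
  · show algebraMap C q.ResidueField x / algebraMap C q.ResidueField y * _ = _
    simp only [map_mul, map_pow, AlgHom.commutes, ← hx, ← hy']
    field_simp

section

variable {r : ℕ} (f : Fin r → A) [∀ i, (Ideal.span {f i}).IsPrime]

include hβ in
/-- Tameness of a finite domain gives tameness of its restriction to the open. -/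
theorem isTameAlong_of_finite (hs : s ≠ 0) (h : SGA1.IsTameAlong f (algebraMap A B)) :
    SGA1.IsTameAlong f (algebraMap A C) := by
  intro i q _ hq
  haveI : (⊥ : Ideal B).IsPrime := Ideal.isPrime_bot
  let ι : B →+* q.ResidueField := (algebraMap C q.ResidueField).comp β.toRingHom
  have hι : Function.Injective ι := injective_algebraMap_residueField β hq
  have hAB : Function.Injective (algebraMap A B) := fun x y hxy => by
    have h1 := congrArg ι hxy
    have h2 : algebraMap C q.ResidueField (algebraMap A C (x - y)) = 0 := by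
      rw [map_sub, map_sub, sub_eq_zero]
      simpa [ι] using h1
    rw [← RingHom.mem_ker, Ideal.ker_algebraMap_residueField] at h2
    exact sub_eq_zero.mp (hq.le h2 : x - y ∈ (⊥ : Ideal A))
  have hq' : Ideal.comap (algebraMap A B) (⊥ : Ideal B) = ⊥ := Ideal.comap_bot_of_injective _ hAB
  let φ : (⊥ : Ideal B).ResidueField →+* q.ResidueField := Ideal.ResidueField.lift ⊥ ι bot_le
    fun x hx => IsUnit.mk0 _ ((map_ne_zero_iff _ hι).mpr hx)
  have hφ : ∀ b, φ (algebraMap B _ b) = ι b := fun b => Ideal.ResidueField.lift_algebraMap _ _ _ _ b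
  have hsurj : Function.Surjective φ := fun z => by
    obtain ⟨a, b, hb, hab⟩ := exists_fraction β hβ hq hs z
    refine ⟨algebraMap B _ a / algebraMap B _ b, ?_⟩
    rw [map_div₀, hφ, hφ, div_eq_iff ((map_ne_zero_iff _ hι).mpr hb)]
    exact hab.symm
  have key : φ.comp (SGA1.genericResidueMap (algebraMap A B) (Ideal.span {f i}) ⊥ hq') =
      SGA1.genericResidueMap (algebraMap A C) (Ideal.span {f i}) q hq := by
    refine IsLocalization.ringHom_ext (Ideal.span {f i}).primeCompl (RingHom.ext fun x => ?_)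
    simp only [RingHom.comp_apply, SGA1.genericResidueMap, IsLocalization.lift_eq, hφ]
    exact congrArg (algebraMap C q.ResidueField) (β.commutes x)
  rw [← key]
  exact isTamelyRamified_of_equiv (RingEquiv.ofBijective φ ⟨φ.injective, hsurj⟩) (h i ⊥ hq')

include hβ in
/-- The index along `f i` of a regular algebra, read off from a prime element. -/
theorem indexDvd_of_prime [IsNoetherianRing A] [IsNoetherianRing B] [Algebra (Localization.Away (∏ j, f j)) C]
    [IsScalarTower A (Localization.Away (∏ j, f j)) C] [Module.Finite (Localization.Away (∏ j, f j)) C]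
    [Algebra.Etale (Localization.Away (∏ j, f j)) C] (hf0 : ∀ j, f j ≠ 0) (hs : s ≠ 0) (i : Fin r)
    {π : B} (hπ : Prime π) {e : ℕ} (he : 1 ≤ e) {u : Bˣ} (hxe : algebraMap A B (f i) = u * π ^ e)
    (hall : ∀ P : Ideal B, P.IsPrime → algebraMap A B (f i) ∈ P → π ∈ P) :
    IndexDvd (Ideal.span {f i}) C e := by
  obtain ⟨aP, htP, hfP⟩ := exists_fraction_algebra (A := A) (Ideal.span {f i})
  intro q _ hq
  obtain ⟨aL, haL, hfd, hsep, -⟩ := exists_residueField_algebra f C hf0 q hq
  letI := aP; letI := aL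
  haveI := htP; haveI := hfP; haveI := hfd; haveI := hsep
  have hgr : (algebraMap (FractionRing A) q.ResidueField).comp
      (algebraMap (Localization.AtPrime (Ideal.span {f i})) (FractionRing A)) =
      SGA1.genericResidueMap (algebraMap A C) (Ideal.span {f i}) q hq := by
    refine IsLocalization.ringHom_ext (Ideal.span {f i}).primeCompl (RingHom.ext fun x => ?_)
    show algebraMap (FractionRing A) q.ResidueField (algebraMap _ (FractionRing A) (algebraMap A _ x)) =
      SGA1.genericResidueMap (algebraMap A C) (Ideal.span {f i}) q hq (algebraMap A _ x)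
    rw [← IsScalarTower.algebraMap_apply A (Localization.AtPrime (Ideal.span {f i})) (FractionRing A),
      SGA1.genericResidueMap, IsLocalization.lift_eq]
    exact (RingHom.congr_fun haL x).trans (IsScalarTower.algebraMap_apply A C _ x)
  suffices H : ∀ g' : Localization.AtPrime (Ideal.span {f i}) →+* q.ResidueField,
      g' = (algebraMap (FractionRing A) q.ResidueField).comp
        (algebraMap (Localization.AtPrime (Ideal.span {f i})) (FractionRing A)) →
      ∀ (V : ValuationSubring q.ResidueField) (hV : EtRam.Dominates (Localization.AtPrime (Ideal.span {f i})) g' V),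
        letI : Algebra (Localization.AtPrime (Ideal.span {f i})) V := (RingHom.codRestrict g' V hV.1).toAlgebra
        Ideal.ramificationIdx' (maximalIdeal (Localization.AtPrime (Ideal.span {f i}))) (maximalIdeal V) ∣ e from
    fun V hV => H _ hgr.symm V hV
  rintro g' rfl V hV
  refine dvd_of_eq (ramificationIdx_of_prime (hf0 i) ((algebraMap C q.ResidueField).comp β.toRingHom)
    (injective_algebraMap_residueField β hq) (fun a => ?_) (exists_fraction β hβ hq hs) hπ he hxe hall V hV)
  show algebraMap C q.ResidueField (β (algebraMap A B a)) = _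
  rw [AlgHom.commutes, ← IsScalarTower.algebraMap_apply A (Localization.AtPrime (Ideal.span {f i})) (FractionRing A),
    ← IsScalarTower.algebraMap_apply A C]
  exact (RingHom.congr_fun haL a).symm

end

/-- Integral elements of a tame cover are rational over the dominating Kummer algebra. -/
theorem mem_range_of_tame [IsRegularLocalRing A] [HenselianLocalRing A] [IsSepClosed (ResidueField A)] {r : ℕ}
    (f : Fin r → A) [∀ i, (Ideal.span {f i}).IsPrime] (hm : ∀ i, f i ∈ maximalIdeal A)
    (hf : LinearIndependent (ResidueField A) (fun i => (maximalIdeal A).toCotangent ⟨f i, hm i⟩))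
    {n : Fin r → ℕ} (hn : ∀ i, 1 ≤ n i) (V : FEt.Cat ((SGA1.specBasicOpen A (∏ i, f i)) : Scheme.{u}))
    (htame : SGA1.IsTameAlong f (coverHom V))
    (hdvd : letI := (coverHom V).toAlgebra; ∀ i, IndexDvd (Ideal.span {f i}) Γ(V.left, ⊤) (n i))
    {Ω : Type u} [Field Ω] (Ψ : SGA1.kummerAlg A f n →+* Ω) (hΨ : Function.Injective Ψ)
    (χ : Γ(V.left, ⊤) →+* Ω) (hχ : ∀ a, χ (coverHom V a) = Ψ (algebraMap A _ a))
    (c : Γ(V.left, ⊤)) (hc : letI := (coverHom V).toAlgebra; IsIntegral A c) :
    ∃ x, Ψ x = χ c := by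
  obtain ⟨hVaff, -⟩ := cover_algebra V
  haveI := hVaff
  obtain ⟨W, hW⟩ := exists_extension f hm hf hn V htame hdvd
  let C := Γ(V.left, ⊤)
  letI : Algebra A C := (coverHom V).toAlgebra
  obtain ⟨E, _, _, _, _, ψ, hψ⟩ := Translate.algebra_of_iso V C V.left.isoSpec (specMap_coverHom V)
    (SGA1.kummerAlg A f n) (isPullback_morphismRestrict _ _) (s := ∏ i, f i) rfl W hW
  let A' := SGA1.kummerAlg A f n
  haveI : IsRegularLocalRing A' := H9Et.Kummer.isRegularLocalRing f hn hm hf
  haveI : IsDomain A' := H4Depth.isDomain_of_isRegularLocalRing A'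
  haveI := H28Alg.ufd_of_regular A'
  obtain ⟨hH, hsep⟩ := strictlyHenselian_kummer f hm hn
  haveI := hH
  haveI : IsSepClosed (ResidueField A') := hsep
  obtain ⟨k, a, hka⟩ := rational_of_model (A'' := A') ψ hψ Ψ χ (RingHom.ext fun a => hχ a) c
  obtain ⟨p, hp, hpc⟩ := hc
  have hint : (letI := Ψ.toAlgebra; IsIntegral A' (χ c)) := by
    refine ⟨p.map (algebraMap A A'), hp.map _, ?_⟩
    letI := Ψ.toAlgebra
    rw [Polynomial.eval₂_map,
      show (algebraMap A' Ω).comp (algebraMap A A') = χ.comp (algebraMap A C) from RingHom.ext fun a => (hχ a).symm,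
      ← Polynomial.hom_eval₂, hpc, map_zero]
  refine mem_range_of_isIntegral_of_fraction Ψ hΨ hint (a := a) (b := algebraMap A A' (∏ i, f i) ^ k)
    (pow_ne_zero k ((map_ne_zero_iff _ (H9Et.Kummer.injective_algebraMap f hn)).mpr
      (Finset.prod_ne_zero_iff.mpr fun i _ => ne_zero_of_linearIndependent f hm hf i))) ?_
  rw [map_pow, ← hka]
  rfl

end Groth.Agent.H9Tame
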