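import Groth.Agent.S0516
import Groth.Agent.H9Hens.StrictTensor
import Groth.Agent.H9Et.Kummer
import Groth.Agent.H4Depth.Regular

/-!
# Strictly henselian rings and Kummer algebras
-/

set_option autoImplicit false
set_option linter.style.haveILetI false

universe u

open IsLocalRing

namespace Groth.Agent.H9Tame

/-- Over a strictly henselian ring, points of a finite etale algebra in domains are rational. -/
theorem range_le_of_strictlyHenselian {R : Type u} [CommRing R] [HenselianLocalRing R]
    [IsSepClosed (ResidueField R)] {E : Type u} [CommRing E] [Algebra R E] [Module.Finite R E]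
    [Algebra.Etale R E] {Ω : Type*} [CommRing Ω] [IsDomain Ω] [Algebra R Ω] (χ : E →ₐ[R] Ω) (x : E) :
    χ x ∈ Set.range (algebraMap R Ω) := by
  classical
  haveI : Algebra.Unramified R E := ⟨inferInstance, inferInstance⟩
  obtain ⟨ι, _, A, _, _, B, _, _, hsurj, hB, ⟨e⟩⟩ := S0516.result R E
  haveI : Module.Finite R B :=
    Module.Finite.of_surjective ((AlgHom.snd R (∀ i, A i) B).comp e.toAlgHom).toLinearMap
      (Prod.snd_surjective.comp e.surjective)
  haveI : Subsingleton B := by
    have h : (⊤ : Submodule R B) ≤ maximalIdeal R • (⊤ : Submodule R B) := by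
      rw [Ideal.smul_top_eq_map, hB]; exact le_of_eq rfl
    have := Submodule.eq_bot_of_le_smul_of_le_jacobson_bot _ ⊤ Module.Finite.fg_top h (maximalIdeal_le_jacobson _)
    exact ⟨fun a b => (Submodule.mem_bot R).mp (this ▸ Submodule.mem_top : a - b ∈ (⊥ : Submodule R B)) |> sub_eq_zero.mp⟩
  let φ : ((∀ i, A i) × B) →ₐ[R] Ω := χ.comp e.symm.toAlgHom
  let δ : ι → (∀ i, A i) × B := fun i => (Pi.single i 1, 0)
  obtain ⟨i, hi⟩ : ∃ i, φ (δ i) ≠ 0 := by
    by_contra h
    push Not at h
    have h1 : (1 : (∀ i, A i) × B) = ∑ i, δ i := by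
      refine Prod.ext ?_ (Subsingleton.elim _ _)
      rw [Prod.fst_sum]
      exact (Finset.univ_sum_single (1 : ∀ i, A i)).symm
    have := congrArg φ h1
    rw [map_one, map_sum, Finset.sum_eq_zero fun i _ => h i] at this
    exact one_ne_zero this
  have hone : φ (δ i) = 1 := by
    have : φ (δ i) * φ (δ i) = φ (δ i) := by
      rw [← map_mul]
      congr 1
      exact Prod.ext (by simp [δ, ← Pi.single_mul]) (Subsingleton.elim _ _)
    exact mul_right_cancel₀ hi (this.trans (one_mul _).symm)
  obtain ⟨a, ha⟩ := hsurj i ((e x).1 i)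
  refine ⟨a, ?_⟩
  have h2 : δ i * e x = δ i * algebraMap R _ a := by
    refine Prod.ext (funext fun j => ?_) (Subsingleton.elim _ _)
    by_cases hj : j = i
    · subst hj; simp [δ, ha]
    · simp [δ, hj]
  have h3 := congrArg φ h2
  rw [map_mul, map_mul, hone, one_mul, one_mul, AlgHom.commutes] at h3
  rw [← h3]
  show χ (e.symm (e x)) = χ x
  rw [e.symm_apply_apply]

/-- Generators of the maximal ideal as many as the dimension are independent in the cotangent space. -/
theorem linearIndependent_of_span_eq {R : Type u} [CommRing R] [IsRegularLocalRing R] {ι : Type*} [Fintype ι]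
    (G : ι → R) (hG : ∀ j, G j ∈ maximalIdeal R) (hspan : Ideal.span (Set.range G) = maximalIdeal R)
    (hcard : (Fintype.card ι : WithBot ℕ∞) ≤ ringKrullDim R) :
    LinearIndependent (ResidueField R) (fun j => (maximalIdeal R).toCotangent ⟨G j, hG j⟩) := by
  have htop : Submodule.span (ResidueField R) (Set.range fun j => (maximalIdeal R).toCotangent ⟨G j, hG j⟩) = ⊤ := by
    rw [show Set.range (fun j => (maximalIdeal R).toCotangent ⟨G j, hG j⟩) =
      (maximalIdeal R).toCotangent '' Set.range (fun j => (⟨G j, hG j⟩ : maximalIdeal R)) from Set.range_comp _ _,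
      CotangentSpace.span_image_eq_top_iff]
    refine Submodule.map_injective_of_injective (maximalIdeal R).subtype_injective ?_
    rw [Submodule.map_subtype_top, Submodule.map_span, ← Set.range_comp]
    exact hspan
  refine linearIndependent_of_top_le_span_of_card_eq_finrank htop.ge (le_antisymm ?_ ?_)
  · rw [← (IsRegularLocalRing.iff_finrank_cotangentSpace R).1 ‹_›, Nat.cast_le] at hcard
    exact hcard
  · have := finrank_range_le_card (R := ResidueField R) (fun j => (maximalIdeal R).toCotangent ⟨G j, hG j⟩)
    rwa [Set.finrank, htop, finrank_top] at this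

/-- A member of a regular system of parameters generates a prime ideal. -/
theorem isPrime_span_of_linearIndependent {R : Type u} [CommRing R] [IsRegularLocalRing R] {ι : Type*}
    (x : ι → R) (hx : ∀ j, x j ∈ maximalIdeal R)
    (h : LinearIndependent (ResidueField R) (fun j => (maximalIdeal R).toCotangent ⟨x j, hx j⟩)) (i : ι) :
    (Ideal.span {x i}).IsPrime := by
  classical
  obtain ⟨d, hd⟩ := H4Depth.exists_nat_ringKrullDim_eq (R := R)
  let v := (maximalIdeal R).toCotangent ⟨x i, hx i⟩
  obtain ⟨W, hW⟩ := Submodule.exists_isCompl (Submodule.span (ResidueField R) ({v} : Set (CotangentSpace R)))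
  let b := Module.finBasis (ResidueField R) W
  choose g hg using fun j => Ideal.toCotangent_surjective (maximalIdeal R) ((b j : W) : CotangentSpace R)
  let G : Fin 1 ⊕ Fin (Module.finrank (ResidueField R) W) → maximalIdeal R := Sum.elim (fun _ => ⟨x i, hx i⟩) g
  have hspan : Ideal.span (Set.range fun j => (G j : R)) = maximalIdeal R := by
    have htop : Submodule.span (ResidueField R) ((maximalIdeal R).toCotangent '' Set.range G) = ⊤ := by
      rw [Set.Sum.elim_range, Set.image_union, Submodule.span_union, Set.range_const, Set.image_singleton,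
        ← Set.range_comp, show ((maximalIdeal R).toCotangent ∘ g) = fun j => ((b j : W) : CotangentSpace R) from funext hg,
        show (fun j => ((b j : W) : CotangentSpace R)) = W.subtype ∘ b from rfl, Set.range_comp,
        ← Submodule.map_span, b.span_eq, Submodule.map_subtype_top]
      exact hW.sup_eq_top
    have h1 := congrArg (Submodule.map (maximalIdeal R).subtype) (CotangentSpace.span_image_eq_top_iff.1 htop)
    rw [Submodule.map_subtype_top, Submodule.map_span, ← Set.range_comp] at h1
    exact h1
  have hcard : d = 1 + Module.finrank (ResidueField R) W := by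
    have h1 := (IsRegularLocalRing.iff_finrank_cotangentSpace R).1 ‹_›
    rw [hd, Nat.cast_inj] at h1
    rw [← h1, ← Submodule.finrank_add_eq_of_isCompl hW, finrank_span_singleton (h.ne_zero i)]
  let e : Fin d ≃ Fin 1 ⊕ Fin (Module.finrank (ResidueField R) W) := (finCongr hcard).trans finSumFinEquiv.symm
  obtain ⟨hreg, -⟩ := H4Depth.exists_regular_quotient_of_subset d hd (fun j => (G (e j) : R))
    (by
      rw [show (fun j => (G (e j) : R)) = (fun j => (G j : R)) ∘ e from rfl, e.surjective.range_comp]
      exact hspan)
    {e.symm (Sum.inl 0)}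
  haveI := hreg
  have hset : (fun j => (G (e j) : R)) '' (({e.symm (Sum.inl 0)} : Finset (Fin d)) : Set (Fin d)) = {x i} := by
    simp [G]
  rw [← hset]
  exact (Ideal.Quotient.isDomain_iff_prime _).mp (H4Depth.isDomain_of_isRegularLocalRing _)

end Groth.Agent.H9Tame
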