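import Groth.Agent.H9Tame.Rational
import Groth.Agent.H05EGA4.Regular
import Mathlib.Algebra.CharP.Lemmas
import Mathlib.FieldTheory.IsAlgClosed.Basic

/-!
# Points of tame covers lie in tame Kummer algebras
-/

set_option autoImplicit false
set_option linter.style.haveILetI false

universe u

open IsLocalRing
open scoped TensorProduct

noncomputable section

namespace Groth.Agent.H9Tame

open H9Et.Kummer in
/-- The map of Kummer algebras given by raising the roots to a power. -/
theorem exists_kummer_map {B : Type u} [CommRing B] {r : ℕ} (g : Fin r → B) (m q : ℕ) :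
    ∃ h : SGA1.kummerAlg B g (fun _ => m) →ₐ[B] SGA1.kummerAlg B g (fun _ => q * m),
      ∀ j, h (root g (fun _ => m) j) = root g (fun _ => q * m) j ^ q := by
  refine ⟨Ideal.Quotient.liftₐ _ (MvPolynomial.aeval fun j => root g (fun _ => q * m) j ^ q) fun a ha => ?_,
    fun j => (Ideal.Quotient.liftₐ_apply _ _ _ _).trans (MvPolynomial.aeval_X _ j)⟩
  refine (show Ideal.span _ ≤ RingHom.ker (MvPolynomial.aeval (R := B)
    fun j => root g (fun _ => q * m) j ^ q).toRingHom from ?_) ha
  rw [Ideal.span_le]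
  rintro _ ⟨i, rfl⟩
  simp only [SetLike.mem_coe, RingHom.mem_ker, AlgHom.toRingHom_eq_coe, RingHom.coe_coe, map_sub, map_pow,
    MvPolynomial.aeval_X, MvPolynomial.aeval_C, ← pow_mul, root_pow (n := fun _ => q * m), sub_self]

open H9Et.Kummer in
/-- Functoriality of Kummer algebras in the base. -/
theorem exists_kummer_baseChange {A B : Type u} [CommRing A] [CommRing B] [Algebra A B] {r : ℕ} (f : Fin r → A)
    (n : Fin r → ℕ) :
    ∃ h : SGA1.kummerAlg A f n →+* SGA1.kummerAlg B (fun i => algebraMap A B (f i)) n,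
      ∀ a, h (algebraMap A _ a) = algebraMap B _ (algebraMap A B a) := by
  let g := fun i => algebraMap A B (f i)
  let φ : MvPolynomial (Fin r) A →+* SGA1.kummerAlg B g n :=
    MvPolynomial.eval₂Hom ((algebraMap B (SGA1.kummerAlg B g n)).comp (algebraMap A B)) (root g n)
  have hle : ∀ x ∈ Ideal.span (Set.range fun i => (MvPolynomial.X i : MvPolynomial (Fin r) A) ^ n i - MvPolynomial.C (f i)),
      φ x = 0 := fun x hx => by
    refine (show Ideal.span _ ≤ RingHom.ker φ from ?_) hx
    rw [Ideal.span_le]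
    rintro _ ⟨i, rfl⟩
    simp only [SetLike.mem_coe, RingHom.mem_ker, φ, map_sub, map_pow, MvPolynomial.eval₂Hom_X',
      MvPolynomial.eval₂Hom_C, root_pow, RingHom.comp_apply, g, sub_self]
  refine ⟨Ideal.Quotient.lift _ φ hle, fun a => ?_⟩
  rw [← Ideal.Quotient.mk_algebraMap, Ideal.Quotient.lift_mk]
  exact MvPolynomial.eval₂Hom_C _ _ a

/-- The Frobenius power of an element of the large Kummer algebra. -/
theorem exists_pow_eq {B : Type u} [CommRing B] {r : ℕ} (g : Fin r → B) (m p k : ℕ) [Fact p.Prime]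
    (h : SGA1.kummerAlg B g (fun _ => m) →ₐ[B] SGA1.kummerAlg B g (fun _ => p ^ k * m))
    (hh : ∀ j, h (H9Et.Kummer.root g (fun _ => m) j) = H9Et.Kummer.root g (fun _ => p ^ k * m) j ^ p ^ k)
    (a : SGA1.kummerAlg B g (fun _ => p ^ k * m)) :
    ∃ b c, a ^ p ^ k = h b + (p : SGA1.kummerAlg B g (fun _ => p ^ k * m)) * c := by
  have ha : a ∈ Algebra.adjoin B (Set.range (H9Et.Kummer.root g (fun _ => p ^ k * m))) := by
    rw [H9Et.Kummer.adjoin_root_eq_top]; trivial
  induction ha using Algebra.adjoin_induction with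
  | mem x hx =>
    obtain ⟨j, rfl⟩ := hx
    exact ⟨H9Et.Kummer.root g (fun _ => m) j, 0, by rw [hh, mul_zero, add_zero]⟩
  | algebraMap x => exact ⟨algebraMap B _ (x ^ p ^ k), 0, by rw [AlgHom.commutes, map_pow, mul_zero, add_zero]⟩
  | add x y _ _ hx hy =>
    obtain ⟨b, c, hbc⟩ := hx
    obtain ⟨b', c', hbc'⟩ := hy
    obtain ⟨w, hw⟩ := exists_add_pow_prime_pow_eq (Fact.out : p.Prime) x y k
    exact ⟨b + b', c + c' + x * y * w, by rw [hw, hbc, hbc', map_add]; ring⟩
  | mul x y _ _ hx hy =>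
    obtain ⟨b, c, hbc⟩ := hx
    obtain ⟨b', c', hbc'⟩ := hy
    refine ⟨b * b', c * h b' + h b * c' + (p : SGA1.kummerAlg B g (fun _ => p ^ k * m)) * (c * c'), ?_⟩
    rw [mul_pow, hbc, hbc', map_mul]
    ring

variable {A : Type u} [CommRing A] [IsRegularLocalRing A] [IsDomain A] {r : ℕ} (f : Fin r → A)
  [∀ i, (Ideal.span {f i}).IsPrime] (hf0 : ∀ i, f i ≠ 0)
  (C : Type u) [CommRing C] [Algebra A C] [Algebra (Localization.Away (∏ i, f i)) C]
  [IsScalarTower A (Localization.Away (∏ i, f i)) C]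
  [Module.Finite (Localization.Away (∏ i, f i)) C] [Algebra.Etale (Localization.Away (∏ i, f i)) C]

include hf0 in
/-- A finite etale model of the cover at a height one point. -/
theorem exists_point_model (htame : SGA1.IsTameAlong f (algebraMap A C)) {m : ℕ}
    (R : Type u) [CommRing R] [IsDomain R] [IsDiscreteValuationRing R] [Algebra A R]
    (hinj : Function.Injective (algebraMap A R))
    (hh : (Ideal.comap (algebraMap A R) (maximalIdeal R)).height ≤ 1)
    (t : Fin r → R) (ht : ∀ j, t j ^ m = algebraMap A R (f j))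
    (hdvd : ∀ j, f j ∈ Ideal.comap (algebraMap A R) (maximalIdeal R) → IndexDvd (Ideal.span {f j}) C m) :
    ∃ (E : Type u) (_ : CommRing E) (_ : Algebra R E) (_ : Module.Finite R E) (_ : Algebra.Etale R E)
      (ψ : E →ₐ[R] R ⊗[A] C), letI := ψ.toRingHom.toAlgebra;
        IsLocalization.Away (algebraMap R E (algebraMap A R (∏ j, f j))) (R ⊗[A] C) := by
  let P := Ideal.comap (algebraMap A R) (maximalIdeal R)
  let s := ∏ j, f j
  haveI : P.IsPrime := Ideal.IsPrime.comap _
  by_cases hs : s ∈ P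
  · obtain ⟨j, -, hj⟩ := (Ideal.IsPrime.prod_mem_iff (p := P)).mp hs
    exact exists_local_algebra f C hf0 htame j (hdvd j hj) R hinj
      (eq_span_of_mem_of_height_le_one (hf0 j) P hj hh) (t j) (ht j)
  have hu : IsUnit (algebraMap A R s) := of_not_not fun h => hs h
  haveI : Algebra.Etale A (Localization.Away s) := Algebra.Etale.of_isLocalizationAway s
  haveI : Algebra.Etale A C := Algebra.Etale.comp A (Localization.Away s) C
  haveI : Module.Finite R (R ⊗[A] C) := by
    obtain ⟨G, hG⟩ := Module.Finite.fg_top (R := Localization.Away s) (M := C)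
    classical
    refine ⟨⟨G.image (fun c => (1 : R) ⊗ₜ[A] c), eq_top_iff.mpr ?_⟩⟩
    intro x hx
    clear hx
    rw [Finset.coe_image]
    induction x using TensorProduct.induction_on with
    | zero => exact zero_mem _
    | add x y hx hy => exact add_mem hx hy
    | tmul b c =>
      have hc : c ∈ Submodule.span (Localization.Away s) (G : Set C) := hG ▸ Submodule.mem_top
      rw [show b ⊗ₜ[A] c = b • ((1 : R) ⊗ₜ[A] c) by rw [TensorProduct.smul_tmul', smul_eq_mul, mul_one]]
      refine Submodule.smul_mem _ _ ?_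
      induction hc using Submodule.span_induction with
      | mem c hc => exact Submodule.subset_span ⟨c, hc, rfl⟩
      | zero => rw [TensorProduct.tmul_zero]; exact zero_mem _
      | add c d _ _ hc hd => rw [TensorProduct.tmul_add]; exact add_mem hc hd
      | smul z c _ hc =>
        obtain ⟨n, a, ha⟩ := IsLocalization.Away.surj s z
        obtain ⟨v, hv⟩ := hu.pow n
        have key : (v : R) • ((1 : R) ⊗ₜ[A] (z • c)) = algebraMap A R a • ((1 : R) ⊗ₜ[A] c) := by
          rw [hv, ← map_pow, algebraMap_smul, algebraMap_smul, ← TensorProduct.tmul_smul,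
            ← TensorProduct.tmul_smul, ← smul_assoc]
          congr 1
          rw [← algebraMap_smul (Localization.Away s) a c]
          congr 1
          rw [Algebra.smul_def, map_pow, mul_comm]
          exact ha
        rw [show (1 : R) ⊗ₜ[A] (z • c) = ((v⁻¹ : Rˣ) : R) • (v : R) • ((1 : R) ⊗ₜ[A] (z • c)) by
          rw [smul_smul, v.inv_mul, one_smul], key]
        exact Submodule.smul_mem _ _ (Submodule.smul_mem _ _ hc)
  refine ⟨R ⊗[A] C, inferInstance, inferInstance, inferInstance, inferInstance, AlgHom.id R _, ?_⟩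
  exact IsLocalization.away_of_isUnit_of_bijective (R ⊗[A] C) (hu.map _) Function.bijective_id

include hf0 in
/-- The descent to the tame part, for abstract rings. -/
theorem mem_tame_part_aux (htame : SGA1.IsTameAlong f (algebraMap A C)) {p k m : ℕ}
    [Fact p.Prime] (hdvd : ∀ j, (p : A) ∈ Ideal.span {f j} → IndexDvd (Ideal.span {f j}) C m)
    (A' A'' : Type u) [CommRing A'] [IsDomain A'] [IsRegularLocalRing A'] [Algebra A A'] [Module.Flat A A']
    [CommRing A''] [IsDomain A''] [IsIntegrallyClosed A''] [HenselianLocalRing A'']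
    [IsSepClosed (ResidueField A'')] [Algebra A' A''] [Algebra.IsIntegral A' A''] [Algebra A A'']
    [IsScalarTower A A' A''] (hinjA : Function.Injective (algebraMap A A'))
    (hinjh : Function.Injective (algebraMap A' A''))
    (t : Fin r → A') (ht : ∀ j, t j ^ m = algebraMap A A' (f j))
    (hfrob : ∀ a : A'', ∃ b c, a ^ p ^ k = algebraMap A' A'' b + (p : A'') * c)
    (hpA' : (p : A') ∈ maximalIdeal A') (hpA'0 : (p : A') ≠ 0)
    (A₀ : Type u) [CommRing A₀] [Algebra A A₀] (h₀ : A₀ →+* A'')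
    (hh₀ : ∀ a, h₀ (algebraMap A A₀ a) = algebraMap A A'' a)
    (E₀ : Type u) [CommRing E₀] [Algebra A₀ E₀] [Module.Finite A₀ E₀] [Algebra.Etale A₀ E₀]
    (ψ₀ : E₀ →ₐ[A₀] A₀ ⊗[A] C)
    (hψ₀ : letI := ψ₀.toRingHom.toAlgebra
      IsLocalization.Away (algebraMap A₀ E₀ (algebraMap A A₀ (∏ i, f i))) (A₀ ⊗[A] C))
    {Ω : Type u} [Field Ω] [Algebra A Ω] (Ψ'' : A'' →+* Ω) (hΨ''inj : Function.Injective Ψ'')
    (hΨA : ∀ a : A, Ψ'' (algebraMap A A'' a) = algebraMap A Ω a) (χ : C →ₐ[A] Ω) (c : C) :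
    ∃ a b : A', b ≠ 0 ∧ χ c * Ψ'' (algebraMap A' A'' b) = Ψ'' (algebraMap A' A'' a) := by
  let s := ∏ i, f i
  let Ψ : A' →+* Ω := Ψ''.comp (algebraMap A' A'')
  have hΨ : Function.Injective Ψ := hΨ''inj.comp hinjh
  have hAA'' : Function.Injective (algebraMap A A'') := by
    rw [IsScalarTower.algebraMap_eq A A' A'']; exact hinjh.comp hinjA
  obtain ⟨P', hP', hP'le⟩ := Ideal.exists_minimalPrimes_le
    ((Ideal.span_singleton_le_iff_mem _).mpr hpA' : Ideal.span {(p : A')} ≤ maximalIdeal A')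
  haveI : P'.IsPrime := hP'.isPrime
  haveI : (Ideal.span {(p : A')}).IsPrincipal := ⟨⟨_, rfl⟩⟩
  have hPh : P'.height ≤ 1 := Ideal.height_le_one_of_isPrincipal_of_mem_minimalPrimes _ _ hP'
  have hpP : (p : A') ∈ P' := hP'.le (Ideal.mem_span_singleton_self _)
  let R := Localization.AtPrime P'
  haveI : IsRegularLocalRing R := H05EGA4.isRegularLocalRing_localization A' P'
  have hinjA'R : Function.Injective (algebraMap A' R) := IsLocalization.injective R P'.primeCompl_le_nonZeroDivisors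
  have hpR : (p : R) ∈ maximalIdeal R := by
    rw [← map_natCast (algebraMap A' R)]
    exact (IsLocalization.AtPrime.to_map_mem_maximal_iff R P' _).mpr hpP
  have hdimR : ringKrullDim R ≤ 1 := by
    rw [IsLocalization.AtPrime.ringKrullDim_eq_height P' R]; exact_mod_cast hPh
  haveI : IsDiscreteValuationRing R := H06FlatSub.isDVR_of_regular hdimR fun hF => by
    rw [IsLocalRing.isField_iff_maximalIdeal_eq.mp hF, Ideal.mem_bot, ← map_natCast (algebraMap A' R),
      map_eq_zero_iff _ hinjA'R] at hpR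
    exact hpA'0 hpR
  have hAR : ∀ x : A, algebraMap A R x = algebraMap A' R (algebraMap A A' x) :=
    IsScalarTower.algebraMap_apply A A' R
  have hinjAR : Function.Injective (algebraMap A R) := by
    rw [IsScalarTower.algebraMap_eq A A' R]; exact hinjA'R.comp hinjA
  have hcm : Ideal.comap (algebraMap A R) (maximalIdeal R) = Ideal.comap (algebraMap A A') P' := by
    ext x
    rw [Ideal.mem_comap, Ideal.mem_comap, hAR]
    exact IsLocalization.AtPrime.to_map_mem_maximal_iff R P' _
  have hh1 : (Ideal.comap (algebraMap A R) (maximalIdeal R)).height ≤ 1 := by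
    rw [hcm]
    haveI : P'.LiesOver (Ideal.comap (algebraMap A A') P') := ⟨rfl⟩
    refine le_trans ?_ hPh
    rw [Ideal.height_eq_height_add_of_liesOver_of_hasGoingDown (Ideal.comap (algebraMap A A') P') P']
    exact le_self_add
  obtain ⟨E, _, _, hEf, hEe, ψ, hψ⟩ := exists_point_model f hf0 C htame (m := m) R hinjAR hh1
    (fun j => algebraMap A' R (t j)) (fun j => by rw [← map_pow, ht, hAR]) (by
      intro j hj
      have hpA : (p : A) ∈ Ideal.comap (algebraMap A R) (maximalIdeal R) := by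
        rw [Ideal.mem_comap, map_natCast]; exact hpR
      haveI : (Ideal.comap (algebraMap A R) (maximalIdeal R)).IsPrime := Ideal.IsPrime.comap _
      rw [eq_span_of_mem_of_height_le_one (hf0 j) _ hj hh1] at hpA
      exact hdvd j hpA)
  -- the embedding of the local ring
  have hu : ∀ y : P'.primeCompl, IsUnit (Ψ y) := fun y => isUnit_iff_ne_zero.mpr fun h0 => y.2 (by
    rw [hΨ (h0.trans (map_zero Ψ).symm)]; exact zero_mem _)
  obtain ⟨jR, hjR⟩ : ∃ jR : R →+* Ω, ∀ x, jR (algebraMap A' R x) = Ψ x :=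
    ⟨IsLocalization.lift hu, fun x => IsLocalization.lift_eq hu x⟩
  letI : Algebra R Ω := jR.toAlgebra
  haveI : IsScalarTower A R Ω := IsScalarTower.of_algebraMap_eq fun a => by
    show _ = jR (algebraMap A R a)
    rw [hAR, hjR]
    show _ = Ψ'' (algebraMap A' A'' (algebraMap A A' a))
    rw [← IsScalarTower.algebraMap_apply, hΨA]
  let ω₀ : R ⊗[A] C →ₐ[R] Ω := Algebra.TensorProduct.lift (Algebra.ofId R Ω) χ fun _ _ => Commute.all _ _
  let ω : E →ₐ[R] Ω := ω₀.comp ψ
  -- fractions of the large algebra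
  have hfrac : ∀ c : C, ∃ a b : A'', b ≠ 0 ∧ χ c * Ψ'' b = Ψ'' a := by
    intro c
    letI := h₀.toAlgebra
    obtain ⟨l, a, hla⟩ := rational_of_model ψ₀ hψ₀ Ψ'' χ.toRingHom (RingHom.ext fun a => by
      show χ (algebraMap A C a) = Ψ'' (h₀ (algebraMap A _ a))
      rw [hh₀, AlgHom.commutes]
      exact (hΨA a).symm) c
    refine ⟨a, h₀ (algebraMap A _ s) ^ l, pow_ne_zero _ ?_, by rw [map_pow]; exact hla⟩
    rw [hh₀, map_ne_zero_iff _ hAA'']
    exact Finset.prod_ne_zero_iff.mpr fun i _ => hf0 i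
  let M : Submonoid A'' := P'.primeCompl.map (algebraMap A' A'').toMonoidHom
  have hRM : ∀ x : A', algebraMap R Ω (algebraMap A' R x) = Ψ'' (algebraMap A' A'' x) := fun x => hjR x
  have hω : ∀ e, ∃ a b : A'', b ≠ 0 ∧ ω e * Ψ'' b = Ψ'' a := by
    intro e
    show ∃ a b : A'', b ≠ 0 ∧ ω₀ (ψ e) * _ = _
    induction ψ e using TensorProduct.induction_on with
    | zero => exact ⟨0, 1, one_ne_zero, by rw [map_zero, zero_mul, map_zero]⟩
    | add x y hx hy =>
      obtain ⟨a, b, hb, hab⟩ := hx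
      obtain ⟨a', b', hb', hab'⟩ := hy
      refine ⟨a * b' + a' * b, b * b', mul_ne_zero hb hb', ?_⟩
      rw [map_add, map_add, map_mul, map_mul, map_mul, ← hab, ← hab']
      ring
    | tmul v c =>
      obtain ⟨a, b, hb, hab⟩ := hfrac c
      obtain ⟨⟨a', u⟩, hau⟩ := IsLocalization.surj P'.primeCompl v
      refine ⟨algebraMap A' A'' a' * a, algebraMap A' A'' u * b, mul_ne_zero ?_ hb, ?_⟩
      · rw [map_ne_zero_iff _ hinjh]
        exact fun h0 => u.2 (by rw [h0]; exact zero_mem _)
      · rw [Algebra.TensorProduct.lift_tmul, map_mul, map_mul, ← hab, Algebra.ofId_apply, ← hRM, ← hRM, ← hau,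
          map_mul]
        ring
  letI : Algebra A' Ω := Ψ.toAlgebra
  haveI : IsScalarTower A' R Ω := IsScalarTower.of_algebraMap_eq fun x => (hjR x).symm
  letI : Algebra A'' Ω := Ψ''.toAlgebra
  haveI : IsScalarTower A' A'' Ω := IsScalarTower.of_algebraMap_eq fun _ => rfl
  have key : ∀ e, ω e ∈ Set.range (algebraMap R Ω) := rational_descent (p := p) (k := k) hpR Ψ'' hΨ''inj M
    (fun u hu => by
      obtain ⟨x, hx, rfl⟩ := hu
      exact ⟨algebraMap A' R x, IsLocalization.map_units R (⟨x, hx⟩ : P'.primeCompl), hRM x⟩)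
    (fun c => (((Algebra.IsIntegral.isIntegral (R := A') c).map (IsScalarTower.toAlgHom A' A'' Ω))).tower_top)
    (fun a => by
      obtain ⟨b, c, hbc⟩ := hfrob a
      refine ⟨algebraMap A' R b, c, ?_⟩
      rw [hbc, map_add, map_mul, map_natCast, hRM])
    ω hω (fun x hx => by
      obtain ⟨u, hu⟩ := hx.exists_multiple_integral_of_isLocalization P'.primeCompl
      refine ⟨algebraMap A' A'' (u : A'), ⟨u, u.2, rfl⟩, ?_⟩
      have h2 : IsIntegral A'' ((u : A') • x) := hu.tower_top
      rw [Algebra.smul_def, mul_comm] at h2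
      exact h2)
  -- conclude
  letI := ψ.toRingHom.toAlgebra
  haveI := hψ
  obtain ⟨l, e, he⟩ := IsLocalization.Away.surj (algebraMap R E (algebraMap A R s)) ((1 : R) ⊗ₜ[A] c)
  obtain ⟨v, hv⟩ := key e
  obtain ⟨⟨a, u⟩, hau⟩ := IsLocalization.surj P'.primeCompl v
  refine ⟨a, algebraMap A A' s ^ l * u, mul_ne_zero (pow_ne_zero _ ?_) (fun h0 => u.2 (by rw [h0]; exact zero_mem _)), ?_⟩
  · exact (map_ne_zero_iff _ hinjA).mpr (Finset.prod_ne_zero_iff.mpr fun i _ => hf0 i)
  have h1 := congrArg ω₀ he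
  rw [map_mul, map_pow, show algebraMap E (R ⊗[A] C) (algebraMap R E (algebraMap A R s)) =
    algebraMap R _ (algebraMap A R s) from ψ.commutes _, AlgHom.commutes,
    show ω₀ ((1 : R) ⊗ₜ[A] c) = χ c by simp [ω₀]] at h1
  show χ c * Ψ (algebraMap A A' s ^ l * u) = Ψ a
  rw [map_mul, map_pow, ← hjR, ← hAR, ← hjR u, ← hjR a]
  show χ c * (algebraMap R Ω (algebraMap A R s) ^ l * algebraMap R Ω (algebraMap A' R (u : A'))) =
    algebraMap R Ω (algebraMap A' R a)
  rw [← mul_assoc, h1, show ω₀ (algebraMap E _ e) = algebraMap R Ω v from hv.symm, ← map_mul, hau]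

variable {B : Type u} [CommRing B] [IsRegularLocalRing B] [IsDomain B] [Algebra A B] [Module.Flat A B]
  [HenselianLocalRing B] [IsSepClosed (ResidueField B)]
  (hmg : ∀ i, algebraMap A B (f i) ∈ maximalIdeal B)
  (hg : LinearIndependent (ResidueField B) (fun i => (maximalIdeal B).toCotangent ⟨algebraMap A B (f i), hmg i⟩))

include hf0 hmg hg in
/-- Points of a tame cover with values in the large Kummer algebra are in the tame one. -/
theorem mem_tame_part (htame : SGA1.IsTameAlong f (algebraMap A C)) {p k m : ℕ} [Fact p.Prime] (hm0 : 1 ≤ m)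
    (hpB : (p : B) ∈ maximalIdeal B) (hp0 : (p : B) ≠ 0) (hAB : Function.Injective (algebraMap A B))
    (hdvd : ∀ j, (p : A) ∈ Ideal.span {f j} → IndexDvd (Ideal.span {f j}) C m)
    (A₀ : Type u) [CommRing A₀] [Algebra A A₀]
    (h₀ : A₀ →+* SGA1.kummerAlg B (fun i => algebraMap A B (f i)) (fun _ => p ^ k * m))
    (hh₀ : ∀ a, h₀ (algebraMap A A₀ a) = algebraMap B _ (algebraMap A B a))
    (E₀ : Type u) [CommRing E₀] [Algebra A₀ E₀] [Module.Finite A₀ E₀] [Algebra.Etale A₀ E₀]
    (ψ₀ : E₀ →ₐ[A₀] A₀ ⊗[A] C)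
    (hψ₀ : letI := ψ₀.toRingHom.toAlgebra
      IsLocalization.Away (algebraMap A₀ E₀ (algebraMap A A₀ (∏ i, f i))) (A₀ ⊗[A] C))
    {Ω : Type u} [Field Ω] [IsAlgClosed Ω] [Algebra A Ω]
    (Ψ : SGA1.kummerAlg B (fun i => algebraMap A B (f i)) (fun _ => m) →+* Ω) (hΨ : Function.Injective Ψ)
    (hΨA : ∀ a : A, Ψ (algebraMap B _ (algebraMap A B a)) = algebraMap A Ω a) (χ : C →ₐ[A] Ω) (c : C) :
    ∃ a b : SGA1.kummerAlg B (fun i => algebraMap A B (f i)) (fun _ => m), b ≠ 0 ∧ χ c * Ψ b = Ψ a := by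
  let g : Fin r → B := fun i => algebraMap A B (f i)
  let A' := SGA1.kummerAlg B g (fun _ => m)
  let A'' := SGA1.kummerAlg B g (fun _ => p ^ k * m)
  let s := ∏ i, f i
  have hpk : 1 ≤ p ^ k * m := Nat.one_le_iff_ne_zero.mpr
    (Nat.mul_ne_zero (pow_ne_zero k (Fact.out : p.Prime).ne_zero) (by omega))
  haveI hreg' : IsRegularLocalRing A' := H9Et.Kummer.isRegularLocalRing g (fun _ => hm0) hmg hg
  haveI hreg'' : IsRegularLocalRing A'' := H9Et.Kummer.isRegularLocalRing g (fun _ => hpk) hmg hg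
  haveI : IsDomain A' := H4Depth.isDomain_of_isRegularLocalRing A'
  haveI : IsDomain A'' := H4Depth.isDomain_of_isRegularLocalRing A''
  haveI : IsIntegrallyClosed A'' := H05EGA4.isIntegrallyClosed_of_isRegularLocalRing A''
  haveI : Module.Flat B A' := H9Et.Kummer.flat g (fun _ => hm0) hmg hg
  haveI : Module.Finite B A'' := H9Et.Kummer.finite g (fun _ => hpk)
  obtain ⟨hH, hsep⟩ := strictlyHenselian_kummer g hmg (n := fun _ => p ^ k * m) (fun _ => hpk) (A := B)
  haveI := hH
  haveI : IsSepClosed (ResidueField A'') := hsep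
  -- the embedding of the large algebra
  obtain ⟨h, hh⟩ := exists_kummer_map g m (p ^ k)
  have hroot : ∀ j, ∃ z : Ω, z ^ p ^ k = Ψ (H9Et.Kummer.root g (fun _ => m) j) := fun j =>
    IsAlgClosed.exists_pow_nat_eq _ (pow_pos (Fact.out : p.Prime).pos k)
  choose z hz using hroot
  letI : Algebra B Ω := (Ψ.comp (algebraMap B A')).toAlgebra
  let Ψ'' : A'' →ₐ[B] Ω := Ideal.Quotient.liftₐ _ (MvPolynomial.aeval z) (fun a ha => by
    refine (show Ideal.span _ ≤ RingHom.ker (MvPolynomial.aeval (R := B) z).toRingHom from ?_) ha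
    rw [Ideal.span_le]
    rintro _ ⟨i, rfl⟩
    simp only [SetLike.mem_coe, RingHom.mem_ker, AlgHom.toRingHom_eq_coe, RingHom.coe_coe, map_sub, map_pow,
      MvPolynomial.aeval_X, MvPolynomial.aeval_C]
    rw [pow_mul, hz, ← map_pow, H9Et.Kummer.root_pow, sub_eq_zero]
    rfl)
  have hΨ'' : ∀ j, Ψ'' (H9Et.Kummer.root g (fun _ => p ^ k * m) j) = z j := fun j =>
    (Ideal.Quotient.liftₐ_apply _ _ _ _).trans (MvPolynomial.aeval_X _ j)
  let Ψ₀ : A' →ₐ[B] Ω := { Ψ with commutes' := fun _ => rfl }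
  have hcomp : Ψ''.comp h = Ψ₀ := H9Et.Kummer.algHom_ext g _ fun j => by
    rw [AlgHom.comp_apply, hh, map_pow, hΨ'', hz]
    rfl
  have hBΩ : Function.Injective (algebraMap B Ω) := hΨ.comp (H9Et.Kummer.injective_algebraMap g (fun _ => hm0))
  have hΨ''inj : Function.Injective Ψ''.toRingHom := by
    rw [RingHom.injective_iff_ker_eq_bot]
    refine Ideal.eq_bot_of_comap_eq_bot (R := B) ?_
    rw [RingHom.comap_ker, show Ψ''.toRingHom.comp (algebraMap B A'') = algebraMap B Ω from Ψ''.comp_algebraMap,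
      ← RingHom.injective_iff_ker_eq_bot]
    exact hBΩ
  -- the height one point above `p`
  have hpA' : (p : A') ∈ maximalIdeal A' := by
    haveI := H9Et.Kummer.finite g (n := fun _ => m) (fun _ => hm0)
    have h1 := Ideal.mem_map_of_mem (algebraMap B A') hpB
    rw [map_natCast] at h1
    rw [(H9Et.Kummer.isLocalRing g (n := fun _ => m) (fun _ => hm0) hmg).2 (maximalIdeal A') inferInstance]
    exact Submodule.mem_sup_right h1
  have hinjB' := H9Et.Kummer.injective_algebraMap g (n := fun _ => m) (fun _ => hm0)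
  have hpA'0 : (p : A') ≠ 0 := fun h0 => hp0 (hinjB' (by rw [map_natCast, h0, map_zero]))
  letI : Algebra A' A'' := h.toRingHom.toAlgebra
  haveI : IsScalarTower B A' A'' := ⟨fun b x y => by
    show h (b • x) * y = b • (h x * y)
    rw [map_smul, smul_mul_assoc]⟩
  haveI : IsScalarTower A A' A'' := ⟨fun a x y => by
    show h (a • x) * y = a • (h x * y)
    rw [← algebraMap_smul B a x, map_smul, algebraMap_smul, smul_mul_assoc]⟩
  haveI : Module.Flat A A' := Module.Flat.trans A B A'
  haveI : Algebra.IsIntegral A' A'' := ⟨fun x => (Algebra.IsIntegral.isIntegral (R := B) x).tower_top⟩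
  have hhinj : Function.Injective (algebraMap A' A'') := by
    intro x y hxy
    apply hΨ
    have h1 := congrArg Ψ'' hxy
    exact (AlgHom.congr_fun hcomp x).symm.trans (h1.trans (AlgHom.congr_fun hcomp y))
  obtain ⟨a, b, hb, hab⟩ := mem_tame_part_aux f hf0 C htame hdvd A' A''
    (by rw [IsScalarTower.algebraMap_eq A B A']; exact hinjB'.comp hAB) hhinj
    (H9Et.Kummer.root g (fun _ => m))
    (fun j => by rw [H9Et.Kummer.root_pow, IsScalarTower.algebraMap_apply A B A'])
    (fun a => exists_pow_eq g m p k h hh a) hpA' hpA'0 A₀ h₀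
    (fun a => by rw [hh₀, IsScalarTower.algebraMap_apply A B A'']) E₀ ψ₀ hψ₀ Ψ''.toRingHom hΨ''inj
    (fun a => by
      rw [IsScalarTower.algebraMap_apply A B A'']
      show Ψ'' (algebraMap B A'' _) = _
      rw [AlgHom.commutes]
      exact hΨA a) χ c
  refine ⟨a, b, hb, ?_⟩
  rw [show Ψ b = Ψ'' (h b) from (AlgHom.congr_fun hcomp b).symm, show Ψ a = Ψ'' (h a) from (AlgHom.congr_fun hcomp a).symm]
  exact hab

end Groth.Agent.H9Tame
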